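import Cfsg.Agent.Lib.Recog.JanType.Embedded

/-!
Owner: helper1. An involution central in a Sylow `2`-subgroup whose weak closure in its centraliser is
`Z₂ × A₅` has normal closure `J₁`.
-/

set_option autoImplicit false
set_option maxRecDepth 100000

namespace CfsgLib.Recog.JanType

open Subgroup CfsgLib.Recog.J1Order

namespace Hyp

variable {G : Type*} [Group G] [Finite G] (D : Hyp G)

theorem normalClosure_eq : normalClosure ({D.t} : Set G) = D.L0 := by
  refine le_antisymm ?_ ((closure_le _).2 ?_)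
  · haveI : D.L0.Normal := ⟨fun x hx g => by
      obtain ⟨l, hl, r, hr, rfl⟩ := D.mem_H (D.eq_top ▸ mem_top g : g ∈ D.H)
      have e : l * r * x * (l * r)⁻¹ = l * x * l⁻¹ := by
        calc l * r * x * (l * r)⁻¹ = l * (r * x) * r⁻¹ * l⁻¹ := by group
          _ = l * x * l⁻¹ := by rw [D.R_cent hr hx]; group
      rw [e]
      exact mul_mem (mul_mem hl hx) (inv_mem hl)⟩
    exact normalClosure_le_normal (Set.singleton_subset_iff.2 (D.wct_le_L0 (mem_wc_self D.t)))
  · rintro x ⟨u, hu, hu1, hx⟩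
    have hle : wc u ≤ normalClosure ({D.t} : Set G) := (closure_le _).2 fun y ⟨g, hy, _⟩ => by
      obtain ⟨a, ha⟩ := isConj_iff.1 (D.conj_of_mem_E hu hu1)
      have ht : D.t ∈ normalClosure ({D.t} : Set G) := subset_normalClosure (Set.mem_singleton D.t)
      have hua : u ∈ normalClosure ({D.t} : Set G) := ha ▸ (normalClosure_normal.conj_mem D.t ht a)
      show y ∈ normalClosure ({D.t} : Set G)
      rw [hy]
      exact normalClosure_normal.conj_mem u hua g
    exact hle hx

/-- The normal closure of `t` is `J₁`. -/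
theorem normalClosure_iso : Cfsg.Spor.IsoJ1 ↥(normalClosure ({D.t} : Set G)) := by
  obtain ⟨f⟩ := D.iso_Q
  have hle : D.L0 ≤ D.H := le_sup_left
  let φ : ↥D.L0 →* D.Q := D.proj.comp (Subgroup.inclusion hle)
  have hinj : Function.Injective φ := by
    rw [injective_iff_map_eq_one]
    intro x hx
    have h : (x : G) ∈ D.L0 ⊓ D.R := ⟨x.2, D.proj_eq_one.1 hx⟩
    rw [D.L0_inf_R, mem_bot] at h
    exact Subtype.ext h
  have hsur : Function.Surjective φ := fun q => by
    obtain ⟨h, rfl⟩ := D.proj_surjective q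
    obtain ⟨l, hl, r, hr, he⟩ := D.mem_H h.2
    refine ⟨⟨l, hl⟩, ?_⟩
    have h1 : h = Subgroup.inclusion hle ⟨l, hl⟩ * ⟨r, (le_sup_right : D.R ≤ D.H) hr⟩ := Subtype.ext he
    have h2 : D.proj ⟨r, (le_sup_right : D.R ≤ D.H) hr⟩ = 1 := D.proj_eq_one.2 hr
    rw [h1, map_mul, h2, mul_one]
    rfl
  exact ⟨((MulEquiv.subgroupCongr D.normalClosure_eq).trans (MulEquiv.ofBijective φ ⟨hinj, hsur⟩)).trans f⟩

end Hyp

/-- An involution central in a Sylow `2`-subgroup with weak closure `Z₂ × A₅` generates `J₁` normally. -/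
theorem iso_normalClosure {G : Type*} [Group G] [Finite G] (t : G) (ht : orderOf t = 2) (S : Sylow 2 G)
    (htS : t ∈ (S : Subgroup G)) (hSt : ∀ s ∈ (S : Subgroup G), s * t = t * s) (e : ↥(wc t) ≃* Mdl) :
    Cfsg.Spor.IsoJ1 ↥(normalClosure ({t} : Set G)) := by
  obtain ⟨D, rfl, -⟩ := exists_hyp t ht S htS hSt e
  exact D.normalClosure_iso

end CfsgLib.Recog.JanType
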