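import Cfsg.Agent.Lib.Recog.JanType.Quotient
import Cfsg.Agent.Lib.Recog.JankoOneOrders
import Cfsg.Agent.Lib.TwoGroups.StrongEmbedding
import Cfsg.Agent.Lib.Classical.SwapPair
import Cfsg.Agent.Lib.LocalEven.Generation

/-!
Owner: helper1. `L0 R` is the whole group: otherwise it is strongly embedded, and the stabiliser of two cosets,
a group of odd order, would be transitive on the `1463` involutions of `J₁`.
-/

set_option autoImplicit false

namespace CfsgLib.Recog.JanType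

universe u

open Subgroup CfsgLib.Recog.J1Order

/-- A subgroup of odd order of a group with the element orders and order of `J₁` has order at most `361`. -/
theorem card_odd_le {U : Type*} [Group U] [Finite U] (hodd : Odd (Nat.card U)) (hdvd : Nat.card U ∣ 175560)
    (hord : ∀ z : U, orderOf z ∈ [1, 2, 3, 5, 6, 7, 10, 11, 15, 19]) : Nat.card U ≤ 361 := by
  have h19 : ∀ z : U, orderOf z ≤ 19 := fun z => by
    have h : ∀ n ∈ [1, 2, 3, 5, 6, 7, 10, 11, 15, 19], n ≤ 19 := by decide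
    exact h _ (hord z)
  have hd : Nat.card U ∣ 8 * 21945 := by simpa using hdvd
  have hd2 : Nat.card U ∣ 21945 :=
    ((Nat.coprime_two_right.2 hodd).pow_right 3).dvd_of_dvd_mul_left (by simpa using hd)
  have hsq : Squarefree (21945 : ℕ) := by
    rw [Nat.squarefree_iff_nodup_primeFactorsList (by norm_num)]
    simp
  have : IsZGroup U := IsZGroup.of_squarefree (hsq.squarefree_of_dvd hd2)
  have := IsZGroup.isCyclic_commutator (G := U)
  obtain ⟨c, hc⟩ := IsCyclic.exists_ofOrder_eq_natCard (α := commutator U)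
  obtain ⟨a, ha⟩ := IsCyclic.exists_ofOrder_eq_natCard (α := Abelianization U)
  obtain ⟨b, rfl⟩ := QuotientGroup.mk'_surjective _ a
  have h1 : Nat.card (commutator U) ≤ 19 := by rw [← hc, ← Subgroup.orderOf_coe]; exact h19 _
  have h2 : Nat.card (U ⧸ commutator U) ≤ 19 := by
    refine le_trans (le_of_eq (ha.symm)) (le_trans (Nat.le_of_dvd (orderOf_pos b) ?_) (h19 b))
    exact orderOf_map_dvd _ b
  rw [Subgroup.card_eq_card_quotient_mul_card_subgroup (commutator U)]
  calc Nat.card (U ⧸ commutator U) * Nat.card (commutator U) ≤ 19 * 19 := Nat.mul_le_mul h2 h1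
    _ = 361 := by norm_num

namespace Hyp

variable {G : Type*} [Group G] [Finite G] (D : Hyp G)

omit [Finite G] in
theorem exists_gen_conj {x : G} (hx : ∃ g : G, x = g * D.t * g⁻¹ ∧ x * D.t = D.t * x) :
    ∃ m : Mdl, D.el m = x ∧ ∃ n : Mdl, n * m * n⁻¹ ∈ E0 ∧ n * m * n⁻¹ ≠ 1 := by
  obtain ⟨g, rfl, hc⟩ := hx
  obtain ⟨m, hm⟩ := D.exists_el (D.mem_wc_of_conj (isConj_iff.2 ⟨g, rfl⟩) hc)
  have hsq : m * m = 1 := D.el_injective (by
    rw [map_mul, hm, map_one, show g * D.t * g⁻¹ * (g * D.t * g⁻¹) = g * (D.t * D.t) * g⁻¹ by group,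
      ← pow_two, ← D.ht, pow_orderOf_eq_one]
    group)
  obtain ⟨n, hn⟩ := inv_conj m hsq
  refine ⟨m, hm, n, hn, fun h => D.t_ne_one ?_⟩
  rw [conj_eq_one_iff] at h
  rw [h, map_one] at hm
  exact conj_eq_one_iff.1 hm.symm

/-- A Sylow subgroup of a subgroup containing `E` sits inside a conjugate Sylow subgroup fixing `E`. -/
theorem sylow_sub {Y : Subgroup G} (hEY : D.E ≤ Y) (P : Sylow 2 Y)
    (hEP : ∀ x, ∀ hx : x ∈ D.E, (⟨x, hEY hx⟩ : Y) ∈ (P : Subgroup Y)) (p : Y) (hp : p ∈ (P : Subgroup Y)) :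
    (p : G) ∈ D.H ∧ (∀ e ∈ D.E, (p : G) * e = e * p) ∧ (IsConj D.t (p : G) → (p : G) ∈ D.E) := by
  have : Fact (Nat.Prime 2) := ⟨Nat.prime_two⟩
  obtain ⟨c, -, hc⟩ := exists_conj_into (Y := ⊤) D.S (P.isPGroup'.map Y.subtype) le_top le_top
  have hcN : c ∈ normalizer (D.E : Set G) := D.conj_E_mem fun x hx => hc x ⟨⟨x, hEY hx⟩, hEP x hx, rfl⟩
  have hcp : c * (p : G) * c⁻¹ ∈ (D.S : Subgroup G) := hc _ ⟨p, hp, rfl⟩
  refine ⟨?_, fun e he => ?_, fun h => ?_⟩
  · have h2 := mul_mem (mul_mem (inv_mem (D.norm_E_le_H hcN)) (D.S_le_H hcp)) (D.norm_E_le_H hcN)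
    simpa [mul_assoc] using h2
  · have h1 := D.S_cent hcp ((mem_normalizer_iff.1 hcN e).1 he)
    calc (p : G) * e = c⁻¹ * (c * p * c⁻¹ * (c * e * c⁻¹)) * c := by group
      _ = c⁻¹ * (c * e * c⁻¹ * (c * p * c⁻¹)) * c := by rw [h1]
      _ = e * p := by group
  · exact (mem_normalizer_iff.1 hcN _).2 (D.mem_E_of_conj (h.trans (isConj_iff.2 ⟨c, rfl⟩)) hcp)

/-- The centraliser of `e r` lies in `H` when `e` is an involution of `E`. -/
theorem cent_mul_le {e r : G} (he : e ∈ D.E) (he1 : e ≠ 1) (hr : r ∈ D.R) :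
    centralizer ({e * r} : Set G) ≤ D.H := by
  classical
  have : Fact (Nat.Prime 2) := ⟨Nat.prime_two⟩
  set j := e * r with hj
  set Y := centralizer ({j} : Set G) with hY
  have hEY : D.E ≤ Y := fun x hx => by
    rw [hY, mem_centralizer_singleton_iff, hj, ← mul_assoc, D.E_comm hx he, mul_assoc,
      mem_centralizer_iff.1 (D.R_le hr) x hx, mul_assoc]
  obtain ⟨P, hP⟩ := (D.E_isPGroup.of_equiv (subgroupOfEquivOfLe hEY).symm).exists_le_sylow
  have hEP : ∀ x, ∀ hx : x ∈ D.E, (⟨x, hEY hx⟩ : Y) ∈ (P : Subgroup Y) := fun x hx => hP (mem_subgroupOf.2 hx)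
  have hec : IsConj D.t e := D.conj_of_mem_E he he1
  set e' : Y := ⟨e, hEY he⟩ with he'
  have hord : orderOf e' = 2 := by
    rw [← Subgroup.orderOf_coe]
    exact orderOf_eq_prime (by rw [pow_two]; exact D.E_sq he) he1
  -- the only conjugate of `e` inside `E` is `e`
  have hrigid : ∀ z : Y, (z : G) * e * (z : G)⁻¹ ∈ D.E → (z : G) * e * (z : G)⁻¹ = e := by
    intro z hz
    set e'' := (z : G) * e * (z : G)⁻¹ with he''
    set Z : Subgroup Y := centralizer ({(⟨e'', hEY hz⟩ : Y)} : Set Y) with hZ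
    have hPZ : (P : Subgroup Y) ≤ Z := fun p hp => by
      rw [hZ, mem_centralizer_singleton_iff]
      exact Subtype.ext ((D.sylow_sub hEY P hEP p hp).2.1 e'' hz)
    obtain ⟨c, hc, hcP⟩ := exists_conj_into P
      ((D.E_isPGroup.of_equiv (subgroupOfEquivOfLe hEY).symm).map (MulAut.conj z).toMonoidHom)
      (Y := Z) (by
        rintro _ ⟨x, hx, rfl⟩
        rw [hZ, mem_centralizer_singleton_iff]
        refine Subtype.ext ?_
        show (z : G) * x * (z : G)⁻¹ * e'' = e'' * ((z : G) * x * (z : G)⁻¹)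
        calc (z : G) * x * (z : G)⁻¹ * e'' = z * (x * e) * (z : G)⁻¹ := by rw [he'']; group
          _ = z * (e * x) * (z : G)⁻¹ := by rw [D.E_comm (mem_subgroupOf.1 hx) he]
          _ = _ := by rw [he'']; group) hPZ
    -- `c z` normalises `E`
    set n : G := (c : G) * (z : G) with hn
    have hnN : n ∈ normalizer (D.E : Set G) := conj_mem_of_le fun x hx => by
      have h1 := hcP (z * ⟨x, hEY hx⟩ * z⁻¹) ⟨⟨x, hEY hx⟩, mem_subgroupOf.2 hx, rfl⟩
      have h2 : n * x * n⁻¹ = ((c * (z * ⟨x, hEY hx⟩ * z⁻¹) * c⁻¹ : Y) : G) := by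
        rw [hn]; simp [mul_assoc]
      rw [h2]
      rcases eq_or_ne x 1 with rfl | hx1
      · have : (c * (z * ⟨1, hEY hx⟩ * z⁻¹) * c⁻¹ : Y) = 1 := by
          rw [show (⟨1, hEY hx⟩ : Y) = 1 from rfl]; group
        rw [this]
        exact one_mem _
      · refine (D.sylow_sub hEY P hEP _ h1).2.2 ?_
        rw [← h2]
        exact (D.conj_of_mem_E hx hx1).trans (isConj_iff.2 ⟨n, rfl⟩)
    have hce : (c : G) * e'' * (c : G)⁻¹ = e'' := by
      have := congrArg (fun w : Y => (w : G)) (mem_centralizer_singleton_iff.1 hc)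
      exact mul_inv_eq_iff_eq_mul.2 this
    have hne : n * e * n⁻¹ = e'' := by
      calc n * e * n⁻¹ = c * ((z : G) * e * (z : G)⁻¹) * (c : G)⁻¹ := by rw [hn]; group
        _ = e'' := hce
    have hnj : n * j * n⁻¹ = j := by
      have hnY : n ∈ Y := mul_mem c.2 z.2
      exact mul_inv_eq_iff_eq_mul.2 (mem_centralizer_singleton_iff.1 hnY)
    rw [hj, show n * (e * r) * n⁻¹ = n * e * n⁻¹ * (n * r * n⁻¹) by group, hne] at hnj
    have h3 : e⁻¹ * e'' ∈ D.R := by
      have : e⁻¹ * e'' = r * (n * r * n⁻¹)⁻¹ := by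
        rw [eq_mul_inv_iff_mul_eq, mul_assoc, hnj, inv_mul_cancel_left]
      rw [this]
      exact mul_mem hr (inv_mem (D.conj_R hnN hr))
    have h4 := D.eq_one_of_mem (mul_mem (inv_mem he) hz) h3
    exact (inv_mul_eq_one.1 h4).symm
  have hiso : Cfsg.IsIsolatedInvolution e' := by
    refine ⟨hord, fun c hc => ?_⟩
    set u := c * e' * c⁻¹ with hu
    have huo : orderOf u = 2 := by rw [hu, CfsgLib.Signalizer.orderOf_conj, hord]
    have hA : IsPGroup 2 ↥(zpowers u ⊔ zpowers e') := by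
      refine (IsPGroup.of_card (n := 1) (by rw [Nat.card_zpowers, huo, pow_one]) : IsPGroup 2 (zpowers u)).to_sup_of_normal_right'
        (IsPGroup.of_card (n := 1) (by rw [Nat.card_zpowers, hord, pow_one])) (zpowers_le.2 ?_)
      refine conj_mem_of_le ?_
      rintro _ ⟨k, rfl⟩
      have h5 : Commute u (e' ^ k) := (hc.symm).zpow_right k
      show u * e' ^ k * u⁻¹ ∈ zpowers e'
      rw [h5.eq, mul_inv_cancel_right]
      exact ⟨k, rfl⟩
    obtain ⟨y, -, hy⟩ := exists_conj_into (Y := ⊤) P hA le_top le_top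
    have he2 := hy e' ((le_sup_right : zpowers e' ≤ _) (mem_zpowers e'))
    have hu2 := hy u ((le_sup_left : zpowers u ≤ _) (mem_zpowers u))
    have h6 : (y : G) * e * (y : G)⁻¹ ∈ D.E :=
      (D.sylow_sub hEY P hEP _ he2).2.2 (hec.trans (isConj_iff.2 ⟨(y : G), rfl⟩))
    have h7 : ((y * c : Y) : G) * e * ((y * c : Y) : G)⁻¹ ∈ D.E := by
      have h8 := (D.sylow_sub hEY P hEP _ hu2).2.2 (hec.trans (isConj_iff.2 ⟨((y * c : Y) : G), by
        simp [hu, he', mul_assoc]⟩))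
      convert h8 using 1
      simp [hu, he', mul_assoc]
    have h9 : y * u * y⁻¹ = y * e' * y⁻¹ := Subtype.ext (by
      show (y : G) * ((c : G) * e * (c : G)⁻¹) * (y : G)⁻¹ = (y : G) * e * (y : G)⁻¹
      rw [hrigid y h6]
      refine Eq.trans ?_ (hrigid (y * c) h7)
      simp [mul_assoc])
    exact mul_left_cancel (mul_right_cancel h9)
  have htop := CfsgLib.Classical.SwapPair.sup_oddCore_eq_top_of_isolated hiso
  have hO : (Cfsg.oddCore Y).map Y.subtype ≤ D.H := by
    have : IsMulCommutative D.E := ⟨⟨fun a b => Subtype.ext (D.E_comm a.2 b.2)⟩⟩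
    refine LocalEven.le_of_centralizers_le (p := 2) (A := D.E) (fun a ha => by rw [pow_two]; exact D.E_sq ha) ?_ ?_ ?_ ?_
    · rw [E, card_map_of_injective (K := E0) D.el_injective, card_E0]; norm_num
    · intro a ha
      refine conj_mem_of_le ?_
      rintro _ ⟨o, ho, rfl⟩
      exact ⟨⟨a, hEY ha⟩ * o * ⟨a, hEY ha⟩⁻¹, (inferInstance : (Cfsg.oddCore Y).Normal).conj_mem o ho _, rfl⟩
    · rw [card_map_of_injective (K := Cfsg.oddCore Y) (subtype_injective Y)]
      exact fun h => Nat.not_even_iff_odd.2 (ZStar.odd_card_oddCore Y) (even_iff_two_dvd.2 h)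
    · intro a ha ha1
      exact inf_le_right.trans (D.cent_le_H (D.conj_of_mem_E ha ha1) (D.E_le_H ha))
  intro g hg
  have hmem : (⟨g, hg⟩ : Y) ∈ centralizer ({e'} : Set Y) ⊔ Cfsg.oddCore Y := htop ▸ mem_top _
  have hle : centralizer ({e'} : Set Y) ⊔ Cfsg.oddCore Y ≤ D.H.subgroupOf Y := by
    refine sup_le (fun z hz => mem_subgroupOf.2 (D.cent_le_H hec (D.E_le_H he) ?_))
      fun z hz => mem_subgroupOf.2 (hO ⟨z, hz, rfl⟩)
    rw [mem_centralizer_singleton_iff]
    exact congrArg (fun w : Y => (w : G)) (mem_centralizer_singleton_iff.1 hz)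
  exact mem_subgroupOf.1 (hle hmem)

omit [Finite G] in
/-- An element of the weak closure of `t` centralising `E` lies in `E`. -/
theorem mem_E_of_cent {x : G} (hx : x ∈ wc D.t) (hc : ∀ e ∈ D.E, x * e = e * x) : x ∈ D.E := by
  obtain ⟨m, rfl⟩ := D.exists_el hx
  exact D.el_mem_E.2 (E0_self m fun k hk => D.el_injective (by
    rw [map_mul, map_mul]; exact hc _ (D.el_mem_E.2 hk)))

/-- The hypothesis passes to the centraliser of an element of `R`. -/
theorem sub_case {j : G} (hj : j ∈ D.R)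
    (ih : ∀ D' : Hyp ↥(centralizer ({j} : Set G)), D'.H = ⊤) : centralizer ({j} : Set G) ≤ D.H := by
  classical
  have : Fact (Nat.Prime 2) := ⟨Nat.prime_two⟩
  set Y := centralizer ({j} : Set G) with hY
  have hLY : D.L0 ≤ Y := fun x hx => mem_centralizer_singleton_iff.2 (D.R_cent hj hx).symm
  have hWY : wc D.t ≤ Y := D.wct_le_L0.trans hLY
  have hEY : D.E ≤ Y := D.E_le_wc.trans hWY
  obtain ⟨P, hP⟩ := (D.E_isPGroup.of_equiv (subgroupOfEquivOfLe hEY).symm).exists_le_sylow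
  have hEP : ∀ x, ∀ hx : x ∈ D.E, (⟨x, hEY hx⟩ : Y) ∈ (P : Subgroup Y) := fun x hx => hP (mem_subgroupOf.2 hx)
  set t' : Y := ⟨D.t, hEY D.t_mem_E⟩ with ht'
  have ht'o : orderOf t' = 2 := by rw [← Subgroup.orderOf_coe]; exact D.ht
  have hmono : ∀ v : Y, (wc v).map Y.subtype ≤ wc (v : G) := fun v => by
    rw [map_le_iff_le_comap, wc, closure_le]
    rintro x ⟨g, rfl, hc⟩
    exact subset_closure ⟨g, rfl, congrArg (fun w : Y => (w : G)) hc⟩
  have hmap : (wc t').map Y.subtype = wc D.t := by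
    refine le_antisymm (hmono t') ((closure_le _).2 fun x hx => ?_)
    obtain ⟨m, hm, n, hn, hn1⟩ := D.exists_gen_conj hx
    obtain ⟨l, hl, hle⟩ := D.exists_mem_L0 (D.el_mem_E.2 hn) fun h => hn1 (D.el_injective (h.trans (map_one D.el).symm))
    obtain ⟨g, hg, hc⟩ := hx
    set a : Y := (⟨D.el n, hWY (D.el_mem n)⟩ : Y)⁻¹ * ⟨l, hLY hl⟩ with ha
    have hax : ((a * t' * a⁻¹ : Y) : G) = x := by
      rw [← hm]
      rw [map_mul, map_mul, map_inv] at hle
      simp only [ha, ht', Subgroup.coe_mul, Subgroup.coe_inv, mul_inv_rev, inv_inv]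
      calc (D.el n)⁻¹ * l * D.t * (l⁻¹ * D.el n) = (D.el n)⁻¹ * (l * D.t * l⁻¹) * D.el n := by group
        _ = D.el m := by rw [hle]; group
    refine ⟨a * t' * a⁻¹, subset_closure ⟨a, rfl, Subtype.ext ?_⟩, hax⟩
    rw [Subgroup.coe_mul, Subgroup.coe_mul _ t', hax]
    exact hc
  let e' : ↥(wc t') ≃* Mdl :=
    ((Subgroup.equivMapOfInjective (wc t') Y.subtype (subtype_injective Y)).trans
      (MulEquiv.subgroupCongr hmap)).trans D.e
  obtain ⟨D', hDt, hDS⟩ := exists_hyp t' ht'o P (hEP _ D.t_mem_E)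
    (fun s hs => Subtype.ext ((D.sylow_sub hEY P hEP s hs).2.1 _ D.t_mem_E)) e'
  have htop := ih D'
  have hE' : ∀ u ∈ D'.E, (u : G) ∈ D.E := fun u hu => by
    obtain ⟨h1, h2⟩ := D'.mem_E_iff.1 hu
    rw [hDt] at h1
    rw [hDS] at h2
    exact D.mem_E_of_cent (hmap ▸ mem_map_of_mem Y.subtype h1) (D.sylow_sub hEY P hEP u h2).2.1
  have hL : D'.L0.map Y.subtype ≤ D.L0 := by
    rw [map_le_iff_le_comap, L0, closure_le]
    rintro x ⟨v, hv, hv1, hx⟩
    exact D.wc_le_L0 (hE' v hv) (fun h => hv1 (Subtype.ext h)) (hmono v (mem_map_of_mem Y.subtype hx))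
  have hR : D'.R ≤ D.H.subgroupOf Y := fun r hr => by
    refine mem_subgroupOf.2 (D.cent_t_le_H (mem_centralizer_singleton_iff.2 ?_))
    have h3 := D'.R_cent hr (D'.wct_le_L0 (mem_wc_self D'.t))
    rw [hDt] at h3
    exact congrArg (fun w : Y => (w : G)) h3
  intro g hg
  have hgt : (⟨g, hg⟩ : Y) ∈ D'.H := htop ▸ mem_top _
  exact mem_subgroupOf.1 ((sup_le (fun x hx => mem_subgroupOf.2
    ((le_sup_left : D.L0 ≤ D.H) (hL (mem_map_of_mem Y.subtype hx)))) hR) hgt)

/-- The hypothesis passes to the quotient by a central involution in `R`. -/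
theorem quot_case {j : G} (hj : j ∈ D.R) (hj2 : orderOf j = 2) (hcj : zpowers j ≤ center G)
    [hN : (zpowers j).Normal] (ih : ∀ D' : Hyp (G ⧸ zpowers j), D'.H = ⊤) : D.H = ⊤ := by
  classical
  have : Fact (Nat.Prime 2) := ⟨Nat.prime_two⟩
  set Z := zpowers j with hZ
  let π : G →* G ⧸ Z := QuotientGroup.mk' Z
  have hZR : Z ≤ D.R := zpowers_le.2 hj
  have hπ : ∀ a b : G, π a = π b ↔ a⁻¹ * b ∈ Z := fun a b => QuotientGroup.eq
  have hcomm : ∀ g : G, π g * π D.t = π D.t * π g → g * D.t = D.t * g := fun g h => by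
    rw [← map_mul, ← map_mul, eq_comm, hπ] at h
    refine D.cent_of_mod ?_
    have h2 := mem_center_iff.1 (hcj h) g⁻¹
    have h3 := hZR h
    have e : D.t⁻¹ * (g * D.t * g⁻¹) = g * ((D.t * g)⁻¹ * (g * D.t)) * g⁻¹ := by group
    rw [e, mem_center_iff.1 (hcj h) g, mul_inv_cancel_right]
    exact h3
  have hsur : Function.Surjective π := QuotientGroup.mk'_surjective Z
  have hwc : wc (π D.t) = (wc D.t).map π := by
    refine le_antisymm ((closure_le _).2 ?_) ?_
    · rintro x ⟨g', rfl, hc⟩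
      obtain ⟨g, rfl⟩ := hsur g'
      rw [← map_inv, ← map_mul, ← map_mul] at hc ⊢
      exact mem_map_of_mem π (D.mem_wc_of_conj (isConj_iff.2 ⟨g, rfl⟩) (hcomm _ hc))
    · rw [map_le_iff_le_comap, wc, closure_le]
      rintro x ⟨g, rfl, hc⟩
      refine subset_closure ⟨π g, by simp [map_mul], ?_⟩
      rw [← map_mul, ← map_mul, hc]
  have hinj : Function.Injective (π.comp (wc D.t).subtype) := by
    rw [injective_iff_map_eq_one]
    intro w hw
    exact Subtype.ext (D.eq_one_of_wc w.2 (hZR ((QuotientGroup.eq_one_iff _).1 hw)))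
  have hto : orderOf (π D.t) = 2 := by
    refine orderOf_eq_prime (by rw [← map_pow, ← D.ht, pow_orderOf_eq_one, map_one]) fun h => D.t_ne_one ?_
    exact D.eq_one_of_mem D.t_mem_E (hZR ((QuotientGroup.eq_one_iff _).1 h))
  have hrange : (π.comp (wc D.t).subtype).range = wc (π D.t) := by
    rw [hwc, MonoidHom.range_comp, Subgroup.range_subtype]
  let e' : ↥(wc (π D.t)) ≃* Mdl :=
    ((MulEquiv.subgroupCongr hrange).symm.trans (MonoidHom.ofInjective hinj).symm).trans D.e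
  obtain ⟨D', hDt, hDS⟩ := exists_hyp (π D.t) hto (D.S.mapSurjective hsur)
    (mem_map_of_mem π D.htS) (by
      rintro _ ⟨s, hs, rfl⟩
      rw [← map_mul, ← map_mul, D.hSt s hs]) e'
  have hjS : j ∈ (D.S : Subgroup G) := mem_sylow_of_normalizes D.S (k := 1) (by rw [hj2]; rfl)
    (conj_mem_of_le fun x hx => by
      rw [← mem_center_iff.1 (hcj (mem_zpowers j)) x, mul_inv_cancel_right]
      exact hx)
  have hE' : ∀ v ∈ D'.E, ∃ e ∈ D.E, π e = v := fun v hv => by
    obtain ⟨h1, h2⟩ := D'.mem_E_iff.1 hv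
    rw [hDt, hwc] at h1
    rw [hDS] at h2
    obtain ⟨w, hw, rfl⟩ := h1
    obtain ⟨s, hs, hsw⟩ := h2
    refine ⟨w, D.mem_E_iff.2 ⟨hw, ?_⟩, rfl⟩
    have h3 := (zpowers_le.2 hjS) ((hπ s w).1 hsw)
    simpa using mul_mem hs h3
  have hL : D'.L0 ≤ D.H.map π := (closure_le _).2 fun x ⟨v, hv, hv1, hx⟩ => by
    obtain ⟨e, he, rfl⟩ := hE' v hv
    obtain ⟨l, hl, rfl⟩ := D.exists_mem_L0 he (fun h => hv1 (by rw [h, map_one]))
    rw [show π (l * D.t * l⁻¹) = π l * π D.t * (π l)⁻¹ by simp [map_mul], ← wc_conj_eq, hwc] at hx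
    obtain ⟨_, ⟨w, hw, rfl⟩, rfl⟩ := hx
    refine ⟨l * w * l⁻¹, ?_, by simp [map_mul]⟩
    exact (le_sup_left : D.L0 ≤ D.H)
      (mul_mem (mul_mem hl (D.wct_le_L0 hw)) (inv_mem hl))
  have hR : D'.R ≤ D.H.map π := fun r hr => by
    obtain ⟨g, rfl⟩ := hsur r
    have h3 := D'.R_cent hr (D'.wct_le_L0 (mem_wc_self D'.t))
    rw [hDt] at h3
    exact mem_map_of_mem π (D.cent_t_le_H (mem_centralizer_singleton_iff.2 (hcomm g h3)))
  refine eq_top_iff.2 fun g _ => ?_
  have hgm : π g ∈ D'.H := (ih D') ▸ mem_top _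
  obtain ⟨h, hh, hhg⟩ := sup_le hL hR hgm
  have := mul_mem hh (((hZR.trans le_sup_right) ((hπ h g).1 hhg)))
  rwa [mul_inv_cancel_left] at this

/-- All involution centralisers of `H` lie in `H`, given this for the involutions of `R`. -/
theorem inv_cent_le (hR : ∀ j ∈ D.R, orderOf j = 2 → centralizer ({j} : Set G) ≤ D.H) {j : G} (hj : j ∈ D.H)
    (hj2 : orderOf j = 2) :
    centralizer ({j} : Set G) ≤ D.H ∧ ∃ d : G, d ∈ D.H ∧ IsConj D.t d ∧ d * j = j * d := by
  have : Fact (Nat.Prime 2) := ⟨Nat.prime_two⟩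
  obtain ⟨c, hc, hcS⟩ := exists_conj_into D.S
    (IsPGroup.of_card (n := 1) (by rw [Nat.card_zpowers, hj2, pow_one]) : IsPGroup 2 (zpowers j))
    (zpowers_le.2 hj) D.S_le_H
  have hs := hcS j (mem_zpowers j)
  obtain ⟨e, he, r, hr, -, her⟩ := D.S_split hs
  have hle : centralizer ({c * j * c⁻¹} : Set G) ≤ D.H := by
    rw [her]
    by_cases h1 : e = 1
    · rw [h1, one_mul]
      refine hR r hr ?_
      rw [← one_mul r, ← h1, ← her, CfsgLib.Signalizer.orderOf_conj, hj2]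
    · exact D.cent_mul_le he h1 hr
  refine ⟨fun g hg => ?_, c⁻¹ * D.t * c, mul_mem (mul_mem (inv_mem hc) (D.E_le_H D.t_mem_E)) hc,
    isConj_iff.2 ⟨c⁻¹, by rw [inv_inv]⟩, ?_⟩
  · have h2 : c * g * c⁻¹ ∈ centralizer ({c * j * c⁻¹} : Set G) := by
      rw [mem_centralizer_singleton_iff]
      calc c * g * c⁻¹ * (c * j * c⁻¹) = c * (g * j) * c⁻¹ := by group
        _ = c * (j * g) * c⁻¹ := by rw [mem_centralizer_singleton_iff.1 hg]
        _ = _ := by group
    have h3 := mul_mem (mul_mem (inv_mem hc) (hle h2)) hc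
    simpa [mul_assoc] using h3
  · calc c⁻¹ * D.t * c * j = c⁻¹ * (D.t * (c * j * c⁻¹)) * c := by group
      _ = c⁻¹ * (c * j * c⁻¹ * D.t) * c := by rw [D.hSt _ hs]
      _ = _ := by group

omit [Finite G] in
/-- Two elements of `H` conjugating `t` alike differ by an element centralising the image of `t`. -/
theorem proj_commutes (d h : D.H) (hd : (d : G) * D.t * (d : G)⁻¹ = (h : G) * D.t * (h : G)⁻¹) :
    (D.proj d)⁻¹ * D.proj h * D.qt = D.qt * ((D.proj d)⁻¹ * D.proj h) := by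
  have heq : d⁻¹ * h * ⟨D.el mT, D.el_mem_H mT⟩ = ⟨D.el mT, D.el_mem_H mT⟩ * (d⁻¹ * h) := by
    refine Subtype.ext ?_
    show (d : G)⁻¹ * (h : G) * D.el mT = D.el mT * ((d : G)⁻¹ * (h : G))
    rw [D.el_mT]
    calc (d : G)⁻¹ * (h : G) * D.t = (d : G)⁻¹ * ((h : G) * D.t * (h : G)⁻¹) * h := by group
      _ = D.t * ((d : G)⁻¹ * (h : G)) := by rw [← hd]; group
  have h2 := congrArg D.proj heq
  rw [map_mul, map_mul, map_mul, map_mul, map_inv] at h2
  exact h2

theorem card_Q : Nat.card D.Q = 175560 := by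
  obtain ⟨f⟩ := D.iso_Q
  rw [Nat.card_congr f.toEquiv]
  exact JankoOne.card_eq

/-- The conclusion, given it for smaller groups. -/
theorem eq_top_of (hR : ∀ j ∈ D.R, orderOf j = 2 → centralizer ({j} : Set G) ≤ D.H) : D.H = ⊤ := by
  classical
  by_contra hne
  have : Fact (Nat.Prime 2) := ⟨Nat.prime_two⟩
  have hSE : Cfsg.IsStronglyEmbedded D.H := by
    rw [CfsgLib.Signalizer.stronglyEmbedded_iff_conj]
    refine ⟨hne, even_iff_two_dvd.2 ?_, fun j hj hj2 g hg => ?_⟩
    · rw [← D.ht]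
      exact Subgroup.orderOf_dvd_natCard _ (D.E_le_H D.t_mem_E)
    · obtain ⟨-, d, hd, hdc, hdj⟩ := D.inv_cent_le hR hj hj2
      obtain ⟨hle, -⟩ := D.inv_cent_le hR hg ((CfsgLib.Signalizer.orderOf_conj g j).trans hj2)
      have h1 : g * d * g⁻¹ ∈ D.H := hle (mem_centralizer_singleton_iff.2 (by
        calc g * d * g⁻¹ * (g * j * g⁻¹) = g * (d * j) * g⁻¹ := by group
          _ = g * (j * d) * g⁻¹ := by rw [hdj]
          _ = _ := by group))
      obtain ⟨a, ha⟩ := isConj_iff.1 hdc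
      have haH : a ∈ D.H := D.mem_H_of_conj (ha ▸ hd)
      have hga : g * a ∈ D.H := D.mem_H_of_conj (by
        have : g * a * D.t * (g * a)⁻¹ = g * (a * D.t * a⁻¹) * g⁻¹ := by group
        rw [this, ha]; exact h1)
      simpa using mul_mem hga (inv_mem haH)
  obtain ⟨x, hx⟩ : ∃ x : G, x ∉ D.H := by
    by_contra h
    push Not at h
    exact hne (eq_top_iff.2 fun g _ => h g)
  set L : Subgroup D.H := (D.H.map (MulAut.conj x).toMonoidHom).subgroupOf D.H with hL
  have hLodd : Odd (Nat.card L) := by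
    have h := hSE.2.2 x hx
    have he : L.map D.H.subtype = D.H ⊓ D.H.map (MulAut.conj x).toMonoidHom := by
      rw [hL, Subgroup.subgroupOf_map_subtype, inf_comm]
    rw [← card_map_of_injective (K := L) (subtype_injective D.H), he]
    exact h
  set U : Subgroup D.Q := L.map D.proj with hU
  have hUodd : Odd (Nat.card U) := hLodd.of_dvd_nat (Subgroup.card_map_dvd (H := L) D.proj)
  obtain ⟨f⟩ := D.iso_Q
  have hUle : Nat.card U ≤ 361 := by
    have hdiv : Nat.card U ∣ Nat.card D.Q := card_subgroup_dvd_card U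
    rw [D.card_Q] at hdiv
    have hz : ∀ z : D.Q, orderOf z ∈ [1, 2, 3, 5, 6, 7, 10, 11, 15, 19] := fun z => by
      rw [← f.orderOf_eq z]
      exact JankoOne.orderOf_mem (f z)
    refine card_odd_le hUodd hdiv fun z => ?_
    rw [← Subgroup.orderOf_coe]
    exact hz _
  -- `U` is transitive on the cosets of the centraliser of the image of `t`
  let C : Subgroup D.Q := centralizer ({D.qt} : Set D.Q)
  have hsurj : Function.Surjective (fun u : U => ((u : D.Q) : D.Q ⧸ C)) := by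
    intro q
    induction q using QuotientGroup.induction_on with
    | _ h' =>
      obtain ⟨h, rfl⟩ := D.proj_surjective h'
      have hpts : ((1 : G) : G ⧸ D.H) ≠ (x : G ⧸ D.H) := fun he => hx (by
        have := QuotientGroup.eq.1 he
        simpa using this)
      obtain ⟨d, hd1, hd2, hd⟩ := CfsgLib.TwoGroups.SE.exists_conj_fixing hSE hpts D.ht
        ((CfsgLib.TwoGroups.SE.smul_mk_eq_iff _ _).2 (by simpa using D.E_le_H D.t_mem_E))
        ((CfsgLib.Signalizer.orderOf_conj (h : G) D.t).trans D.ht)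
        ((CfsgLib.TwoGroups.SE.smul_mk_eq_iff _ _).2 (by
          simpa using mul_mem (mul_mem h.2 (D.E_le_H D.t_mem_E)) (inv_mem h.2)))
      rw [CfsgLib.TwoGroups.SE.smul_mk_eq_iff] at hd1 hd2
      have hdH : d ∈ D.H := by simpa using hd1
      have hdL : (⟨d, hdH⟩ : D.H) ∈ L := by
        rw [hL, mem_subgroupOf]
        exact ⟨x⁻¹ * d * x, hd2, show x * (x⁻¹ * d * x) * x⁻¹ = d by group⟩
      have hdU : D.proj ⟨d, hdH⟩ ∈ U := by
        rw [hU]
        exact mem_map_of_mem D.proj hdL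
      have hcm : (D.proj ⟨d, hdH⟩)⁻¹ * D.proj h ∈ C :=
        mem_centralizer_singleton_iff.2 (D.proj_commutes ⟨d, hdH⟩ h hd)
      exact Exists.intro (⟨D.proj ⟨d, hdH⟩, hdU⟩ : U) ((QuotientGroup.eq (s := C)).2 hcm)
  have h1463 : Nat.card (D.Q ⧸ C) = 1463 := by
    have h := Subgroup.card_eq_card_quotient_mul_card_subgroup C
    rw [D.card_Q, Nat.card_congr D.qIso.toEquiv, card_model] at h
    omega
  have hle : Nat.card (D.Q ⧸ C) ≤ Nat.card U :=
    Nat.card_le_card_of_surjective (fun u : U => ((u : D.Q) : D.Q ⧸ C)) hsurj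
  rw [h1463] at hle
  omega

end Hyp

theorem eq_top_aux : ∀ (n : ℕ) (G : Type u) [Group G] [Finite G], Nat.card G = n → ∀ D : Hyp G, D.H = ⊤ := by
  intro n
  induction n using Nat.strong_induction_on with
  | _ n ih =>
    intro G _ _ hn D
    have : Fact (Nat.Prime 2) := ⟨Nat.prime_two⟩
    by_cases hcen : ∃ j ∈ D.R, orderOf j = 2 ∧ j ∈ center G
    · obtain ⟨j, hj, hj2, hjc⟩ := hcen
      have hle : zpowers j ≤ center G := zpowers_le.2 hjc
      have : (zpowers j).Normal := ⟨fun z hz g => by rwa [mem_center_iff.1 (hle hz) g, mul_inv_cancel_right]⟩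
      refine D.quot_case hj hj2 hle fun D' => ih _ ?_ _ rfl D'
      have h := Subgroup.card_eq_card_quotient_mul_card_subgroup (zpowers j)
      rw [Nat.card_zpowers, hj2] at h
      have := Nat.card_pos (α := G ⧸ zpowers j)
      omega
    · push Not at hcen
      refine D.eq_top_of fun j hj hj2 => D.sub_case hj fun D' => ih _ ?_ _ rfl D'
      rw [← hn]
      refine lt_of_le_of_ne (Subgroup.card_le_card_group _) fun h => hcen j hj hj2 ?_
      rw [mem_center_iff]
      intro g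
      exact mem_centralizer_singleton_iff.1 ((Subgroup.eq_top_of_card_eq _ h).symm ▸ mem_top g)

/-- `H` is the whole group. -/
theorem Hyp.eq_top {G : Type u} [Group G] [Finite G] (D : Hyp G) : D.H = ⊤ := eq_top_aux _ G rfl D

end CfsgLib.Recog.JanType
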