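import Cfsg.Agent.Lib.Recog.J1Order.Local
import Mathlib

/-!
Owner: helper1. Finite facts about `Z₂ × A₅` used for weak closures of type `Z₂ × A₅`.
-/

set_option autoImplicit false
set_option Elab.async false
set_option maxRecDepth 100000
set_option synthInstance.maxSize 2000
set_option synthInstance.maxHeartbeats 200000

namespace CfsgLib.Recog.JanType

open CfsgLib.Recog.J1Order

/-- A double transposition of `A₅`. -/
def pA : A5 := ⟨Equiv.swap 0 1 * Equiv.swap 2 3, by rw [Equiv.Perm.mem_alternatingGroup]; decide +kernel⟩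
/-- A second double transposition commuting with `pA`. -/
def qA : A5 := ⟨Equiv.swap 0 2 * Equiv.swap 1 3, by rw [Equiv.Perm.mem_alternatingGroup]; decide +kernel⟩
/-- A three-cycle normalising the four-group. -/
def wA : A5 := ⟨Equiv.swap 0 1 * Equiv.swap 1 2, by rw [Equiv.Perm.mem_alternatingGroup]; decide +kernel⟩
/-- A five-cycle. -/
def zA : A5 := ⟨Equiv.swap 0 1 * Equiv.swap 1 2 * Equiv.swap 2 3 * Equiv.swap 3 4,
  by rw [Equiv.Perm.mem_alternatingGroup]; decide +kernel⟩

/-- The central involution. -/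
def mT : Mdl := (Multiplicative.ofAdd 1, 1)
/-- The element of order three. -/
def mW : Mdl := (1, wA)
/-- The element of order five. -/
def mZ : Mdl := (1, zA)

/-- Membership in the standard four-group. -/
def inV (a : A5) : Bool := a == 1 || a == pA || a == qA || a == pA * qA

/-- The standard Sylow `2`-subgroup. -/
def E0 : Subgroup Mdl where
  carrier := {m | inV m.2 = true}
  one_mem' := by decide +kernel
  mul_mem' := by
    intro a b ha hb
    have key : ∀ x y : A5, inV x = true → inV y = true → inV (x * y) = true := by decide +kernel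
    exact key _ _ ha hb
  inv_mem' := by
    intro a ha
    have key : ∀ x : A5, inV x = true → inV x⁻¹ = true := by decide +kernel
    exact key _ ha

instance (m : Mdl) : Decidable (m ∈ E0) := inferInstanceAs (Decidable (inV m.2 = true))

/-- The standard four-group inside the simple factor. -/
def inV0 (m : Mdl) : Prop := m ∈ E0 ∧ m.1 = 1

instance (m : Mdl) : Decidable (inV0 m) := inferInstanceAs (Decidable (m ∈ E0 ∧ m.1 = 1))

theorem mem_E0_iff (m : Mdl) : m ∈ E0 ↔ inV m.2 = true := Iff.rfl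

theorem card_E0 : Nat.card E0 = 8 := by
  rw [Nat.card_eq_fintype_card]
  decide +kernel

theorem E0_sq : ∀ x : Mdl, x ∈ E0 → x * x = 1 := by decide +kernel

theorem E0_comm : ∀ x : Mdl, x ∈ E0 → ∀ y : Mdl, y ∈ E0 → x * y = y * x := by decide +kernel

theorem mT_mem : mT ∈ E0 ∧ mT * mT = 1 ∧ mT ≠ 1 ∧ mT.1 ≠ 1 := by decide +kernel

theorem mT_central : ∀ m : Mdl, m * mT = mT * m := by decide +kernel

theorem mW_facts : mW * mW * mW = 1 ∧ mW ≠ 1 := by decide +kernel

theorem mW_norm : ∀ x : Mdl, x ∈ E0 → mW * x * mW⁻¹ ∈ E0 := by decide +kernel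

theorem mW_fix : ∀ x : Mdl, x ∈ E0 → mW * x * mW⁻¹ = x → x = 1 ∨ x = mT := by decide +kernel

/-- Two nontrivial elements of the four-group are moved to one another by a power of the three-cycle. -/
theorem mW_trans : ∀ x : Mdl, inV0 x → x ≠ 1 → ∀ y : Mdl, inV0 y → y ≠ 1 →
    y = x ∨ y = mW * x * mW⁻¹ ∨ y = mW * mW * x * (mW * mW)⁻¹ := by decide +kernel

/-- Elements of the Sylow subgroup split along the central involution. -/
theorem E0_split : ∀ x : Mdl, x ∈ E0 → inV0 x ∨ inV0 (mT * x) := by decide +kernel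

theorem inV0_unique : ∀ x : Mdl, inV0 x → ∀ y : Mdl, inV0 y → x ≠ 1 → y ≠ 1 → x ≠ y →
    inV0 (x * y) ∧ x * y ≠ 1 ∧ ∀ u : Mdl, inV0 u → u = 1 ∨ u = x ∨ u = y ∨ u = x * y := by decide +kernel

/-- An element outside the centre generates the Sylow subgroup together with the centre and the three-cycle. -/
theorem E0_gen : ∀ x : Mdl, x ∈ E0 → x ≠ 1 → x ≠ mT → ∀ y : Mdl, y ∈ E0 →
    ∃ a b c : Fin 2, y = mT ^ (a : ℕ) * x ^ (b : ℕ) * (mW * x * mW⁻¹) ^ (c : ℕ) := by decide +kernel

theorem inv_conj : ∀ x : Mdl, x * x = 1 → ∃ m : Mdl, m * x * m⁻¹ ∈ E0 := by decide +kernel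

theorem two_sq : ∀ m : Mdl, m ^ 8 = 1 → m * m = 1 := fun m h => (model_two_element m).2 h

/-- The Sylow subgroup is its own centraliser. -/
theorem E0_self : ∀ m : Mdl, (∀ x : Mdl, x ∈ E0 → m * x = x * m) → m ∈ E0 := by decide +kernel

theorem mW_coset : ∀ v : Mdl, v ∈ E0 → mW * v * (mW * v) * (mW * v) = 1 →
    ∃ u : Mdl, u ∈ E0 ∧ u * mW * u⁻¹ = mW * v := by decide +kernel

/-- The five-cycle is determined by the orders of its products with the normaliser of the four-group. -/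
theorem mZ_unique : ∀ z : Mdl, z ^ 5 = 1 → z ≠ 1 →
    (∀ a : Fin 3, ∀ v : Mdl, v ∈ E0 → ∀ k : Fin 4,
      (mW ^ (a : ℕ) * v * z) ^ ((k : ℕ) + 2) = 1 ↔ (mW ^ (a : ℕ) * v * mZ) ^ ((k : ℕ) + 2) = 1) →
    z = mZ := by decide +kernel

theorem mZ_facts : mZ ^ 5 = 1 ∧ mZ ≠ 1 := by decide +kernel

theorem center_mdl : ∀ m : Mdl, (∀ n : Mdl, n * m = m * n) → m = 1 ∨ m = mT := fun m h => model_center m h

theorem perfect_A5 : ∀ a : A5, ∃ x y : A5, a = x * y * x⁻¹ * y⁻¹ := by decide +kernel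

theorem commutator_fst (x y : Mdl) : (x * y * x⁻¹ * y⁻¹).1 = 1 := by
  simp [mul_comm x.1 y.1]

theorem eq_top_of_contains (U : Subgroup Mdl) (h0 : E0 ≤ U) (h3 : mW ∈ U) (h5 : mZ ∈ U) : U = ⊤ := by
  have hd : ∀ {m : Mdl}, m ∈ U → orderOf m ∣ Nat.card U := fun hm => Subgroup.orderOf_dvd_natCard U hm
  have h3' : orderOf mW = 3 := orderOf_eq_prime (by rw [pow_three', mW_facts.1]) mW_facts.2
  have h5' : orderOf mZ = 5 := haveI : Fact (Nat.Prime 5) := ⟨by norm_num⟩; orderOf_eq_prime mZ_facts.1 mZ_facts.2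
  have d3 : 3 ∣ Nat.card U := h3'.symm.dvd.trans (hd h3)
  have d5 : 5 ∣ Nat.card U := h5'.symm.dvd.trans (hd h5)
  have d8 : 8 ∣ Nat.card U := card_E0.symm.dvd.trans (Subgroup.card_dvd_of_le h0)
  have h120 : 120 ∣ Nat.card U := by
    have := Nat.Coprime.mul_dvd_of_dvd_of_dvd (by norm_num : Nat.Coprime (8 * 3) 5)
      (Nat.Coprime.mul_dvd_of_dvd_of_dvd (by norm_num : Nat.Coprime 8 3) d8 d3) d5
    simpa using this
  refine Subgroup.eq_top_of_card_eq U ?_
  rw [card_model]
  exact Nat.dvd_antisymm (card_model ▸ Subgroup.card_subgroup_dvd_card U) h120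

end CfsgLib.Recog.JanType
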