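import Cfsg.Agent.Lib.Recog.JanType.Local

/-!
Owner: helper1. All involutions of `E` are conjugate to `t`; the centralisers of `t` and of `E` split over the
centraliser of the weak closure.
-/

set_option autoImplicit false

namespace CfsgLib.Recog.JanType

open Subgroup CfsgLib.Recog.J1Order

theorem orbit_four : ∀ q : Mdl, q = 1 ∨ q = mT →
    Fintype.card {m : Mdl // m = mT ∨ ∃ p : Mdl, inV0 p ∧ p ≠ 1 ∧ m = q * p} = 4 := by
  rintro q (rfl | rfl) <;> decide +kernel

namespace Hyp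

variable {G : Type*} [Group G] [Finite G] (D : Hyp G)

omit [Finite G] in
theorem el_conj {m k : Mdl} (h : IsConj D.t (D.el m)) : IsConj D.t (D.el (k * m * k⁻¹)) :=
  h.trans (isConj_iff.2 ⟨D.el k, by rw [map_mul, map_mul, map_inv]⟩)

omit [Finite G] in
/-- One element of a class of `E` modulo the three-cycle conjugate to `t` brings the whole class. -/
theorem class_conj {q p p' : Mdl} (hq : q = 1 ∨ q = mT) (hp : inV0 p) (hp1 : p ≠ 1) (hp' : inV0 p') (hp1' : p' ≠ 1)
    (h : IsConj D.t (D.el (q * p))) : IsConj D.t (D.el (q * p')) := by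
  have hq' : ∀ k : Mdl, k * (q * p) * k⁻¹ = q * (k * p * k⁻¹) := fun k => by
    have : k * q = q * k := by rcases hq with rfl | rfl <;> simp [mT_central]
    rw [← mul_assoc k, this, mul_assoc q, mul_assoc q]
  rcases mW_trans p hp hp1 p' hp' hp1' with h' | h' | h'
  · rwa [h']
  · rw [h', ← hq']; exact D.el_conj h
  · rw [h', ← hq']; exact D.el_conj h

/-- All involutions of `E` are conjugate to `t`. -/
theorem conj_of_mem_E {u : G} (hu : u ∈ D.E) (h1 : u ≠ 1) : IsConj D.t u := by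
  classical
  obtain ⟨m, hm, rfl⟩ := hu
  by_contra hno
  obtain ⟨d, hd, hd1, hdT, hdc⟩ := D.exists_other
  have hm1 : m ≠ 1 := fun h => h1 (by rw [h, map_one])
  have hmT : m ≠ mT := fun h => hno (by rw [h, D.el_mT])
  -- the class of `d`
  obtain ⟨q, p, hq, hp, hp1, hqp⟩ : ∃ q p : Mdl, (q = 1 ∨ q = mT) ∧ inV0 p ∧ p ≠ 1 ∧ d = q * p := by
    rcases E0_split d hd with h | h
    · exact ⟨1, d, Or.inl rfl, h, hd1, (one_mul d).symm⟩
    · refine ⟨mT, mT * d, Or.inr rfl, h, fun h' => hdT ?_, by rw [← mul_assoc, mT_mem.2.1, one_mul]⟩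
      calc d = mT * (mT * d) := by rw [← mul_assoc, mT_mem.2.1, one_mul]
        _ = mT := by rw [h', mul_one]
  have hset : ∀ z : Mdl, z ∈ E0 → z ≠ 1 →
      (IsConj D.t (D.el z) ↔ (z = mT ∨ ∃ p : Mdl, inV0 p ∧ p ≠ 1 ∧ z = q * p)) := by
    intro z hz hz1
    constructor
    · intro hzc
      by_contra hz'
      push Not at hz'
      obtain ⟨hzT, hzq⟩ := hz'
      -- `z` and `m` would both be in the other class
      obtain ⟨q', p', hq', hp', hp1', hz''⟩ : ∃ q' p' : Mdl, (q' = 1 ∨ q' = mT) ∧ inV0 p' ∧ p' ≠ 1 ∧ z = q' * p' := by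
        rcases E0_split z hz with h | h
        · exact ⟨1, z, Or.inl rfl, h, hz1, (one_mul z).symm⟩
        · refine ⟨mT, mT * z, Or.inr rfl, h, fun h' => hzT ?_, by rw [← mul_assoc, mT_mem.2.1, one_mul]⟩
          calc z = mT * (mT * z) := by rw [← mul_assoc, mT_mem.2.1, one_mul]
            _ = mT := by rw [h', mul_one]
      have hqq : q' ≠ q := fun h => hzq p' hp' hp1' (h ▸ hz'')
      obtain ⟨qm, pm, hqm, hpm, hpm1, hmq⟩ : ∃ qm pm : Mdl, (qm = 1 ∨ qm = mT) ∧ inV0 pm ∧ pm ≠ 1 ∧ m = qm * pm := by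
        rcases E0_split m hm with h | h
        · exact ⟨1, m, Or.inl rfl, h, hm1, (one_mul m).symm⟩
        · refine ⟨mT, mT * m, Or.inr rfl, h, fun h' => hmT ?_, by rw [← mul_assoc, mT_mem.2.1, one_mul]⟩
          calc m = mT * (mT * m) := by rw [← mul_assoc, mT_mem.2.1, one_mul]
            _ = mT := by rw [h', mul_one]
      apply hno
      by_cases h : qm = q
      · rw [hmq, h]; exact D.class_conj hq hp hp1 hpm hpm1 (hqp ▸ hdc)
      · have : qm = q' := by
          rcases hqm with rfl | rfl <;> rcases hq' with rfl | rfl <;> rcases hq with rfl | rfl <;>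
            first | rfl | exact absurd rfl h | exact absurd rfl hqq
        rw [hmq, this]
        exact D.class_conj hq' hp' hp1' hpm hpm1 (hz'' ▸ hzc)
    · rintro (rfl | ⟨p', hp', hp1', rfl⟩)
      · rw [D.el_mT]
      · exact D.class_conj hq hp hp1 hp' hp1' (hqp ▸ hdc)
  letI : MulAction (normalizer (D.E : Set G)) G :=
    MulAction.compHom G ((MulAut.conj).comp
      (normalizer (D.E : Set G)).subtype)
  have hsmul : ∀ (n : normalizer (D.E : Set G)) (x : G), n • x = n.1 * x * n.1⁻¹ := fun n x => rfl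
  have horb : MulAction.orbit (normalizer (D.E : Set G)) D.t = {x | x ∈ D.E ∧ IsConj D.t x} := by
    ext x
    constructor
    · rintro ⟨n, rfl⟩
      refine ⟨?_, isConj_iff.2 ⟨n, (hsmul n _).symm⟩⟩
      show n • D.t ∈ D.E
      rw [hsmul]
      exact (mem_normalizer_iff.1 n.2 _).1 D.t_mem_E
    · rintro ⟨hx, hxc⟩
      obtain ⟨h, hh, he⟩ := D.fuse hx hxc
      exact ⟨⟨h, hh⟩, he⟩
  have hcard : Nat.card {x : G // x ∈ D.E ∧ IsConj D.t x} = 4 := by
    let f : {z : Mdl // z = mT ∨ ∃ p : Mdl, inV0 p ∧ p ≠ 1 ∧ z = q * p} → {x : G // x ∈ D.E ∧ IsConj D.t x} :=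
      fun z => ⟨D.el z.1, by
        rcases z.2 with h | ⟨p', hp', hp1', h⟩
        · rw [h, D.el_mT]; exact ⟨D.t_mem_E, IsConj.refl _⟩
        · rw [h]
          exact ⟨D.el_mem_E.2 (mul_mem (by rcases hq with rfl | rfl; exacts [one_mem _, mT_mem.1]) hp'.1),
            D.class_conj hq hp hp1 hp' hp1' (hqp ▸ hdc)⟩⟩
    have hf : Function.Bijective f := by
      refine ⟨fun a b h => Subtype.ext (D.el_injective (congrArg (fun z : {x : G // x ∈ D.E ∧ IsConj D.t x} => z.1) h : _)), ?_⟩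
      rintro ⟨x, ⟨z, hz, rfl⟩, hxc⟩
      exact ⟨⟨z, (hset z hz (fun h => D.t_ne_one (by
        rw [h, map_one] at hxc
        exact isConj_one_left.1 hxc))).1 hxc⟩, rfl⟩
    rw [← Nat.card_eq_of_bijective f hf, Nat.card_eq_fintype_card]
    exact orbit_four q hq
  have hidx : (MulAction.stabilizer (normalizer (D.E : Set G)) D.t).index = 4 := by
    rw [MulAction.index_stabilizer, horb, ← Nat.card_coe_set_eq, ← hcard]
    rfl
  have hle : (centralizer (D.E : Set G)).subgroupOf (normalizer (D.E : Set G)) ≤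
      MulAction.stabilizer (normalizer (D.E : Set G)) D.t := fun n hn => by
    rw [MulAction.mem_stabilizer_iff, hsmul]
    exact mul_inv_eq_iff_eq_mul.2 (mem_centralizer_iff.1 (mem_subgroupOf.1 hn) _ D.t_mem_E).symm
  have h4 : (4 : ℕ) ∣ (centralizer (D.E : Set G)).relIndex (normalizer (D.E : Set G)) :=
    hidx ▸ index_dvd_of_le hle
  exact Nat.not_even_iff_odd.2 D.odd_relIndex (even_iff_two_dvd.2 ((show 2 ∣ 4 by norm_num).trans h4))

/-- The centraliser of the weak closure. -/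
def K : Subgroup G := centralizer (wc D.t : Set G)

omit [Finite G] in
theorem K_le : D.K ≤ centralizer (D.E : Set G) := centralizer_le D.E_le_wc

omit [Finite G] in
theorem K_le_t : D.K ≤ centralizer ({D.t} : Set G) :=
  centralizer_le fun x hx => by rw [Set.mem_singleton_iff.1 hx]; exact mem_wc_self D.t

omit [Finite G] in
/-- An element centralising `E` is, up to an element of `E`, in the centraliser of the weak closure. -/
theorem cent_E_decomp {y : G} (hy : y ∈ centralizer (D.E : Set G)) : ∃ v ∈ D.E, v⁻¹ * y ∈ D.K := by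
  have hyt : y ∈ centralizer ({D.t} : Set G) :=
    mem_centralizer_singleton_iff.2 (mem_centralizer_iff.1 hy _ D.t_mem_E).symm
  have hyv : ∀ x : Mdl, x ∈ E0 → y * D.el x * y⁻¹ = D.el x := fun x hx =>
    mul_inv_eq_iff_eq_mul.2 (mem_centralizer_iff.1 hy _ (D.el_mem_E.2 hx)).symm
  obtain ⟨a, ha⟩ := D.exists_el (D.wc_normal hyt (D.el_mem mW))
  have hav : mW⁻¹ * a ∈ E0 := E0_self _ fun x hx => D.el_injective (by
    have hwx : mW * x * mW⁻¹ ∈ E0 := mW_norm x hx
    calc D.el (mW⁻¹ * a * x) = (D.el mW)⁻¹ * (y * D.el mW * y⁻¹) * D.el x := by rw [map_mul, map_mul, map_inv, ha]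
      _ = (D.el mW)⁻¹ * (y * D.el mW * y⁻¹ * (y * D.el x * y⁻¹)) := by rw [hyv x hx]; group
      _ = (D.el mW)⁻¹ * (y * D.el (mW * x * mW⁻¹) * y⁻¹) * (y * D.el mW * y⁻¹) := by
          rw [map_mul, map_mul, map_inv]; group
      _ = D.el (x * (mW⁻¹ * a)) := by
          rw [hyv _ hwx, ← ha, map_mul, map_mul, map_mul, map_mul, map_inv]; group)
  have hcube : mW * (mW⁻¹ * a) * (mW * (mW⁻¹ * a)) * (mW * (mW⁻¹ * a)) = 1 := by
    rw [mul_inv_cancel_left]
    refine D.el_injective ?_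
    rw [map_mul, map_mul, map_one, ha]
    have h3 : D.el mW * D.el mW * D.el mW = 1 := by rw [← map_mul, ← map_mul, mW_facts.1, map_one]
    calc y * D.el mW * y⁻¹ * (y * D.el mW * y⁻¹) * (y * D.el mW * y⁻¹)
        = y * (D.el mW * D.el mW * D.el mW) * y⁻¹ := by group
      _ = 1 := by rw [h3]; group
  obtain ⟨u, hu, hue⟩ := mW_coset _ hav hcube
  rw [mul_inv_cancel_left] at hue
  refine ⟨D.el u, D.el_mem_E.2 hu, ?_⟩
  set z := (D.el u)⁻¹ * y with hz
  have hzt : z ∈ centralizer ({D.t} : Set G) :=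
    mul_mem (inv_mem (wc_le_centralizer D.t (D.el_mem u))) hyt
  let φ : Mdl →* Mdl :=
    { toFun := fun m => D.e ⟨z * D.el m * z⁻¹, D.wc_normal hzt (D.el_mem m)⟩
      map_one' := by
        refine (congrArg D.e (Subtype.ext ?_)).trans (map_one D.e)
        show z * D.el 1 * z⁻¹ = 1
        rw [map_one]; group
      map_mul' := fun m n => by
        rw [← map_mul D.e]
        exact congrArg D.e (Subtype.ext (show z * D.el (m * n) * z⁻¹ = z * D.el m * z⁻¹ * (z * D.el n * z⁻¹) by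
          rw [map_mul]; group)) }
  have hφ : ∀ m, D.el (φ m) = z * D.el m * z⁻¹ := fun m => by simp [φ, el]
  have hφi : Function.Injective φ := fun m n h => D.el_injective (by
    have := congrArg D.el h
    rw [hφ, hφ] at this
    exact mul_left_cancel (mul_right_cancel this))
  have hφ0 : ∀ x : Mdl, x ∈ E0 → φ x = x := fun x hx => D.el_injective (by
    rw [hφ, hz]
    calc (D.el u)⁻¹ * y * D.el x * ((D.el u)⁻¹ * y)⁻¹ = (D.el u)⁻¹ * (y * D.el x * y⁻¹) * D.el u := by group
      _ = D.el x := by rw [hyv x hx, mul_assoc, D.E_comm (D.el_mem_E.2 hx) (D.el_mem_E.2 hu), inv_mul_cancel_left])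
  have hφw : φ mW = mW := D.el_injective (by
    rw [hφ, hz]
    calc (D.el u)⁻¹ * y * D.el mW * ((D.el u)⁻¹ * y)⁻¹ = (D.el u)⁻¹ * (y * D.el mW * y⁻¹) * D.el u := by group
      _ = D.el mW := by rw [← ha, ← hue, map_mul, map_mul, map_inv]; group)
  have hφz : φ mZ = mZ := by
    refine mZ_unique _ (by rw [← map_pow, mZ_facts.1, map_one])
      (fun h => mZ_facts.2 (hφi (h.trans (map_one φ).symm))) fun a v hv k => ?_
    have : φ (mW ^ (a : ℕ) * v * mZ) = mW ^ (a : ℕ) * v * φ mZ := by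
      rw [map_mul, map_mul, map_pow, hφw, hφ0 v hv]
    rw [← this, ← map_pow]
    exact ⟨fun h => hφi (h.trans (map_one φ).symm), fun h => by rw [h, map_one]⟩
  have htop : φ.eqLocus (MonoidHom.id Mdl) = ⊤ := eq_top_of_contains _ hφ0 hφw hφz
  refine mem_centralizer_iff.2 fun w hw => ?_
  obtain ⟨m, rfl⟩ := D.exists_el hw
  have hm : φ m = m := (htop ▸ mem_top m : m ∈ φ.eqLocus (MonoidHom.id Mdl))
  have h := hφ m
  rw [hm] at h
  exact mul_inv_eq_iff_eq_mul.1 h.symm |>.symm

/-- Elements of the centraliser of `t` normalising `E` are a power of the three-cycle times an element of `C(E)`. -/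
theorem norm_decomp {y : G} (hy : y ∈ centralizer ({D.t} : Set G)) (hn : y ∈ normalizer (D.E : Set G)) :
    ∃ i : ℕ, (D.el mW ^ i)⁻¹ * y ∈ centralizer (D.E : Set G) := by
  classical
  obtain ⟨m', hm', he⟩ := D.conj_inV0 hy hn pA_facts.1
  have hm1 : m' ≠ 1 := fun h => pA_facts.2 (D.el_injective (by
    rw [h, map_one] at he
    rw [map_one]
    exact conj_eq_one_iff.1 he.symm))
  obtain ⟨i, hi⟩ : ∃ i : ℕ, (mW ^ i) * (1, pA) * (mW ^ i)⁻¹ = m' := by
    rcases mW_trans _ pA_facts.1 pA_facts.2 m' hm' hm1 with h | h | h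
    · exact ⟨0, by simp [h]⟩
    · exact ⟨1, by simp [h]⟩
    · exact ⟨2, by rw [pow_two, h]⟩
  refine ⟨i, ?_⟩
  set z := (D.el mW ^ i)⁻¹ * y with hz
  have hwn : D.el mW ∈ normalizer (D.E : Set G) := conj_mem_of_le fun x hx => by
    obtain ⟨a, ha, rfl⟩ := hx
    rw [← map_inv, ← map_mul, ← map_mul]
    exact D.el_mem_E.2 (mW_norm a ha)
  have hzn : z ∈ normalizer (D.E : Set G) := mul_mem (inv_mem (pow_mem hwn i)) hn
  have hzt : z ∈ centralizer ({D.t} : Set G) :=
    mul_mem (inv_mem (pow_mem (wc_le_centralizer D.t (D.el_mem mW)) i)) hy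
  have hzp : z * D.el (1, pA) * z⁻¹ = D.el (1, pA) := by
    have h2 : D.el m' = D.el mW ^ i * D.el (1, pA) * (D.el mW ^ i)⁻¹ := by
      rw [← hi, map_mul, map_mul, map_inv, map_pow]
    calc z * D.el (1, pA) * z⁻¹ = (D.el mW ^ i)⁻¹ * (y * D.el (1, pA) * y⁻¹) * D.el mW ^ i := by rw [hz]; group
      _ = D.el (1, pA) := by rw [← he, h2]; group
  -- the induced permutation of the four-group is then trivial
  have hV : ∀ m : Mdl, inV0 m → z * D.el m * z⁻¹ = D.el m := by
    by_contra hne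
    push Not at hne
    obtain ⟨v, hv, hvne⟩ := hne
    obtain ⟨b, hb, hbe⟩ := D.conj_inV0 hzt hzn hv
    have hv1 : v ≠ 1 := fun h => hvne (by rw [h, map_one]; group)
    have hb1 : b ≠ 1 := fun h => hv1 (D.el_injective (by
      rw [h, map_one] at hbe
      rw [map_one]
      exact conj_eq_one_iff.1 hbe.symm))
    have hvp : v ≠ (1, pA) := fun h => hvne (h ▸ hzp)
    have hbp : b ≠ (1, pA) := fun h => hvp (D.el_injective (by
      rw [h, ← hzp] at hbe
      exact (mul_left_cancel (mul_right_cancel hbe)).symm))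
    have hbv : b ≠ v := fun h => hvne (h ▸ hbe.symm)
    -- `z` exchanges `v` and `b`
    obtain ⟨-, -, hlist⟩ := inV0_unique _ pA_facts.1 v hv pA_facts.2 hv1 (Ne.symm hvp)
    have hb2 : b = (1, pA) * v :=
      (((hlist b hb).resolve_left hb1).resolve_left hbp).resolve_left hbv
    have hbb : z * D.el b * z⁻¹ = D.el v := by
      rw [hb2, map_mul]
      calc z * (D.el (1, pA) * D.el v) * z⁻¹ = z * D.el (1, pA) * z⁻¹ * (z * D.el v * z⁻¹) := by group
        _ = D.el (1, pA) * (D.el (1, pA) * D.el v) := by rw [hzp, ← hbe, hb2, map_mul]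
        _ = D.el v := by rw [← mul_assoc, ← map_mul, (inV0_mul _ pA_facts.1).1, map_one, one_mul]
    obtain ⟨a, o, ho, hno⟩ := Nat.exists_eq_two_pow_mul_odd (orderOf_pos z).ne'
    obtain ⟨j, hj⟩ := ho
    have ho2 : orderOf (z ^ o) = 2 ^ a := by
      rw [orderOf_pow_of_dvd (by omega) (hno ▸ dvd_mul_left o _), hno, Nat.mul_div_cancel _ (by omega)]
    have hpow : ∀ k : ℕ, z ^ (2 * k) * D.el v * (z ^ (2 * k))⁻¹ = D.el v := by
      intro k
      induction k with
      | zero => simp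
      | succ k ih =>
        calc z ^ (2 * (k + 1)) * D.el v * (z ^ (2 * (k + 1)))⁻¹
            = z * (z * (z ^ (2 * k) * D.el v * (z ^ (2 * k))⁻¹) * z⁻¹) * z⁻¹ := by
              rw [show 2 * (k + 1) = 2 * k + 1 + 1 from rfl, pow_succ', pow_succ']; group
          _ = D.el v := by rw [ih, ← hbe, hbb]
    have h3 := mul_inv_eq_iff_eq_mul.2 (D.two_mem_cent ho2 (pow_mem hzn o) _ (D.el_inV0_mem hv))
    have h4 : z ^ o * D.el v * (z ^ o)⁻¹ = D.el b := by
      calc z ^ o * D.el v * (z ^ o)⁻¹ = z * (z ^ (2 * j) * D.el v * (z ^ (2 * j))⁻¹) * z⁻¹ := by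
            rw [hj, pow_succ']; group
        _ = D.el b := by rw [hpow, hbe]
    exact hbv (D.el_injective (h4.symm.trans h3))
  refine mem_centralizer_iff.2 fun x hx => ?_
  obtain ⟨m, hm, rfl⟩ := hx
  have hkey : z * D.el m * z⁻¹ = D.el m := by
    rcases E0_split m hm with h | h
    · exact hV m h
    · have h2 := hV _ h
      rw [map_mul, D.el_mT] at h2
      have h3 : z * D.t = D.t * z := mem_centralizer_singleton_iff.1 hzt
      have : z * (D.t * D.el m) * z⁻¹ = D.t * (z * D.el m * z⁻¹) := by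
        rw [← mul_assoc, h3]; group
      rw [this] at h2
      exact mul_left_cancel h2
  exact (mul_inv_eq_iff_eq_mul.1 hkey).symm

/-- The centraliser of `t` is the weak closure times its centraliser. -/
theorem cent_t_decomp {x : G} (hx : x ∈ centralizer ({D.t} : Set G)) :
    ∃ w ∈ wc D.t, w⁻¹ * x ∈ D.K := by
  classical
  let f : ↥(wc D.t) →* ↥(wc D.t) :=
    { toFun := fun w => ⟨x * w.1 * x⁻¹, D.wc_normal hx w.2⟩
      map_one' := Subtype.ext (by simp)
      map_mul' := fun a b => Subtype.ext (by simp [mul_assoc]) }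
  let g : Mdl →* Mdl := (D.e.toMonoidHom.comp f).comp D.e.symm.toMonoidHom
  have hgi : Function.Injective g := D.e.injective.comp (Function.Injective.comp
    (fun a b h => Subtype.ext (mul_left_cancel (mul_right_cancel (congrArg Subtype.val h)))) D.e.symm.injective)
  have hfac : (Nat.card Mdl).factorization 2 = 3 := by
    rw [card_model, show (120 : ℕ) = 2 ^ 3 * 15 from rfl, Nat.factorization_mul (by norm_num) (by norm_num),
      Nat.Prime.factorization_pow Nat.prime_two, Finsupp.add_apply, Finsupp.single_eq_same,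
      Nat.factorization_eq_zero_of_not_dvd (by norm_num : ¬ 2 ∣ 15)]
  have : Fact (Nat.Prime 2) := ⟨Nat.prime_two⟩
  obtain ⟨c, hc⟩ := MulAction.exists_smul_eq Mdl
    (Sylow.ofCard (E0.map g) (by rw [card_map_of_injective (K := E0) hgi, card_E0, hfac]; norm_num))
    (Sylow.ofCard E0 (by rw [card_E0, hfac]; norm_num))
  have hcy : D.el c * x ∈ normalizer (D.E : Set G) := conj_mem_of_le fun y hy => by
    obtain ⟨m, hm, rfl⟩ := hy
    have h1 : D.el c * x * D.el m * (D.el c * x)⁻¹ = D.el (c * g m * c⁻¹) := by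
      rw [map_mul, map_mul, map_inv]
      have : D.el (g m) = x * D.el m * x⁻¹ := by simp [g, f, el]
      rw [this]; group
    rw [h1, D.el_mem_E]
    have h2 := congrArg (fun T : Sylow 2 Mdl => c * g m * c⁻¹ ∈ (T : Subgroup Mdl)) hc
    simp only [Sylow.coe_subgroup_smul, Sylow.coe_ofCard, Subgroup.mem_pointwise_smul_iff_inv_smul_mem,
      MulAut.smul_def, MulAut.conj_inv_apply] at h2
    rw [← h2]
    exact ⟨m, hm, by group⟩
  obtain ⟨i, hi⟩ := D.norm_decomp (mul_mem (wc_le_centralizer D.t (D.el_mem c)) hx) hcy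
  obtain ⟨v, hv, hvK⟩ := D.cent_E_decomp hi
  refine ⟨(D.el c)⁻¹ * D.el mW ^ i * v,
    mul_mem (mul_mem (inv_mem (D.el_mem c)) (pow_mem (D.el_mem mW) i)) (D.E_le_wc hv), ?_⟩
  have : ((D.el c)⁻¹ * D.el mW ^ i * v)⁻¹ * x = v⁻¹ * ((D.el mW ^ i)⁻¹ * (D.el c * x)) := by group
  rw [this]
  exact hvK

end Hyp

end CfsgLib.Recog.JanType
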