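import Cfsg.Agent.Lib.Recog.JanType.Setup

/-!
Owner: helper1. The normaliser of `E`: the Sylow subgroup centralises `E`, all seven involutions of `E` are
conjugate to `t`, and the centraliser of `t` is the weak closure times its centraliser.
-/

set_option autoImplicit false

namespace CfsgLib.Recog.JanType

open Subgroup CfsgLib.Recog.J1Order

theorem card_inV0_ne_one : Fintype.card {m : Mdl // inV0 m ∧ m ≠ 1} = 3 := by decide +kernel

theorem inV0_comm_facts : ∀ m : Mdl, inV0 m → m.1 = 1 ∧ m ∈ E0 := fun _ h => ⟨h.2, h.1⟩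

theorem inV0_mul : ∀ x : Mdl, inV0 x → x * x = 1 ∧ x ≠ mT := by decide +kernel

theorem pA_facts : inV0 (1, pA) ∧ ((1, pA) : Mdl) ≠ 1 := by decide +kernel

namespace Hyp

variable {G : Type*} [Group G] [Finite G] (D : Hyp G)

omit [Finite G] in
theorem el_inV0_mem {m : Mdl} (hm : inV0 m) : D.el m ∈ D.E := D.el_mem_E.2 hm.1

omit [Finite G] in
theorem S_normalizes {s x : G} (hs : s ∈ (D.S : Subgroup G)) (hx : x ∈ D.E) : s * x * s⁻¹ ∈ D.E :=
  D.mem_E_iff.2 ⟨D.wc_normal (D.S_le hs) (D.E_le_wc hx),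
    mul_mem (mul_mem hs (D.E_le_S hx)) (inv_mem hs)⟩

omit [Finite G] in
/-- Commutators inside the weak closure lie in the simple factor. -/
theorem exists_commutator {x y : G} (hx : x ∈ wc D.t) (hy : y ∈ wc D.t) :
    ∃ m : Mdl, m.1 = 1 ∧ D.el m = x * y * x⁻¹ * y⁻¹ := by
  obtain ⟨a, rfl⟩ := D.exists_el hx
  obtain ⟨b, rfl⟩ := D.exists_el hy
  exact ⟨a * b * a⁻¹ * b⁻¹, commutator_fst a b, by simp [map_mul, map_inv]⟩

omit [Finite G] in
/-- An element centralising `t` and normalising `E` preserves the four-group of the simple factor. -/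
theorem conj_inV0 {y : G} (hy : y ∈ centralizer ({D.t} : Set G)) (hn : y ∈ normalizer (D.E : Set G))
    {m : Mdl} (hm : inV0 m) : ∃ m' : Mdl, inV0 m' ∧ D.el m' = y * D.el m * y⁻¹ := by
  obtain ⟨a, b, hab⟩ := perfect_A5 m.2
  have hmem := (mem_normalizer_iff.1 hn _).1 (D.el_inV0_mem hm)
  have hm' : m = ((1, a) : Mdl) * (1, b) * (1, a)⁻¹ * (1, b)⁻¹ := Prod.ext (by simpa using hm.2) (by simpa using hab)
  obtain ⟨k, hk1, hk⟩ := D.exists_commutator (D.wc_normal hy (D.el_mem (1, a))) (D.wc_normal hy (D.el_mem (1, b)))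
  have he : D.el k = y * D.el m * y⁻¹ := by
    rw [hk, hm']
    simp only [map_mul, map_inv]
    group
  exact ⟨k, ⟨D.el_mem_E.1 (he ▸ hmem), hk1⟩, he⟩

omit [Finite G] in
theorem inV0_of_mem {m : Mdl} (hm : m ∈ E0) (h1 : m.1 = 1) : inV0 m := ⟨hm, h1⟩

/-- The Sylow subgroup centralises `E`. -/
theorem S_cent {s x : G} (hs : s ∈ (D.S : Subgroup G)) (hx : x ∈ D.E) : s * x = x * s := by
  classical
  have : Fact (Nat.Prime 2) := ⟨Nat.prime_two⟩
  obtain ⟨m, hm, rfl⟩ := hx
  suffices hV : ∀ m : Mdl, inV0 m → s * D.el m = D.el m * s by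
    rcases E0_split m hm with h | h
    · exact hV m h
    · have h2 := hV _ h
      rw [map_mul, D.el_mT] at h2
      have h3 := D.hSt s hs
      have : s * (D.t * D.el m) = D.t * (s * D.el m) := by rw [← mul_assoc, h3, mul_assoc]
      rw [this, mul_assoc] at h2
      exact mul_left_cancel h2
  by_contra hne
  push Not at hne
  obtain ⟨v, hv, hvne⟩ := hne
  have hnorm : ∀ r ∈ (D.S : Subgroup G), r ∈ normalizer (D.E : Set G) := fun r hr =>
    conj_mem_of_le fun x hx => D.S_normalizes hr hx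
  -- a point fixed by the Sylow subgroup
  let X : Type _ := {z : G // ∃ m : Mdl, inV0 m ∧ m ≠ 1 ∧ D.el m = z}
  letI : MulAction (D.S : Subgroup G) X :=
    { smul := fun r z => ⟨r.1 * z.1 * r.1⁻¹, by
        obtain ⟨m, hm, hm1, hmz⟩ := z.2
        obtain ⟨m', hm', he⟩ := D.conj_inV0 (D.S_le r.2) (hnorm _ r.2) hm
        refine ⟨m', hm', fun h => hm1 (D.el_injective ?_), by rw [he, hmz]⟩
        rw [h, map_one] at he
        rw [map_one]
        exact conj_eq_one_iff.1 he.symm⟩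
      one_smul := fun z => Subtype.ext (show (1 : G) * z.1 * (1 : G)⁻¹ = z.1 by group)
      mul_smul := fun r r' z => Subtype.ext
        (show r.1 * r'.1 * z.1 * (r.1 * r'.1)⁻¹ = r.1 * (r'.1 * z.1 * r'.1⁻¹) * r.1⁻¹ by group) }
  have hX : Nat.card X = 3 := by
    let f : {m : Mdl // inV0 m ∧ m ≠ 1} → X := fun m => ⟨D.el m.1, m.1, m.2.1, m.2.2, rfl⟩
    have hf : Function.Bijective f := ⟨fun a b h => Subtype.ext (D.el_injective (congrArg (fun z : X => z.1) h : _)),
      fun ⟨z, m, hm, hm1, hz⟩ => ⟨⟨m, hm, hm1⟩, Subtype.ext hz⟩⟩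
    rw [← Nat.card_eq_of_bijective f hf, Nat.card_eq_fintype_card, card_inV0_ne_one]
  have : Finite X := Nat.finite_of_card_ne_zero (by omega)
  have hfix : (MulAction.fixedPoints (D.S : Subgroup G) X).Nonempty := by
    have h := D.S.isPGroup'.card_modEq_card_fixedPoints X
    rw [hX] at h
    rw [← Set.nonempty_coe_sort]
    by_contra h0
    rw [not_nonempty_iff] at h0
    rw [Nat.card_of_isEmpty] at h
    exact absurd h (by decide)
  obtain ⟨⟨c, mc, hmc, hmc1, hc⟩, hcfix⟩ := hfix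
  have hcf : ∀ r ∈ (D.S : Subgroup G), r * c * r⁻¹ = c := fun r hr =>
    congrArg Subtype.val (hcfix ⟨r, hr⟩)
  obtain ⟨b, hb, hbe⟩ := D.conj_inV0 (D.S_le hs) (hnorm s hs) hv
  have hv1 : v ≠ 1 := fun h => hvne (by rw [h, map_one, mul_one, one_mul])
  have hbv : b ≠ v := fun h => hvne (by
    rw [h] at hbe
    calc s * D.el v = s * D.el v * s⁻¹ * s := by group
      _ = D.el v * s := by rw [← hbe])
  have hb1 : b ≠ 1 := fun h => hv1 (D.el_injective (by
    rw [h, map_one] at hbe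
    rw [map_one]
    exact conj_eq_one_iff.1 hbe.symm))
  have hmcv : mc ≠ v := fun h => hvne (by
    have := hcf s hs
    rw [← hc, h] at this
    exact mul_inv_eq_iff_eq_mul.1 this)
  have hmcb : mc ≠ b := fun h => hmcv (D.el_injective (by
    have h2 := hcf s hs
    rw [← hc, h, hbe] at h2
    rw [h, hbe]
    exact mul_left_cancel (mul_right_cancel h2)))
  obtain ⟨-, -, hlist⟩ := inV0_unique v hv b hb hv1 hb1 (Ne.symm hbv)
  have hcvb : mc = v * b := (((hlist mc hmc).resolve_left hmc1).resolve_left hmcv).resolve_left hmcb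
  have hccomm : c = D.el v * s * (D.el v)⁻¹ * s⁻¹ := by
    rw [← hc, hcvb, map_mul, hbe, inv_eq_of_mul_eq_one_right (D.E_sq (D.el_inV0_mem hv))]
    group
  -- `c` or `t c` is conjugate to `t`
  have hdc : ∃ i : Bool, IsConj D.t (if i then D.t * c else c) := by
    obtain ⟨d, hd, hd1, hdT, hdcj⟩ := D.exists_other
    have hstep : ∀ x : Mdl, IsConj D.t (D.el x) → ∀ k : Mdl, IsConj D.t (D.el (k * x * k⁻¹)) :=
      fun x hx k => hx.trans (isConj_iff.2 ⟨D.el k, by rw [map_mul, map_mul, map_inv]⟩)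
    have hall : ∀ p : Mdl, inV0 p → p ≠ 1 → ∀ q : Mdl, q = 1 ∨ q = mT → IsConj D.t (D.el (q * p)) →
        IsConj D.t (D.el (q * mc)) := by
      intro p hp hp1 q hq hqp
      have hq' : ∀ k : Mdl, k * (q * p) * k⁻¹ = q * (k * p * k⁻¹) := fun k => by
        have : k * q = q * k := by rcases hq with rfl | rfl <;> simp [mT_central]
        rw [← mul_assoc k, this, mul_assoc q, mul_assoc q]
      rcases mW_trans p hp hp1 mc hmc hmc1 with h | h | h
      · rwa [h]
      · rw [h, ← hq']; exact hstep _ hqp _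
      · rw [h, ← hq']; exact hstep _ hqp _
    rcases E0_split d hd with h | h
    · refine ⟨false, ?_⟩
      have := hall d h hd1 1 (Or.inl rfl) (by rwa [one_mul])
      rw [one_mul, hc] at this
      simpa using this
    · refine ⟨true, ?_⟩
      have hne1 : mT * d ≠ 1 := fun h' => hdT (by
        calc d = mT * (mT * d) := by rw [← mul_assoc, mT_mem.2.1, one_mul]
          _ = mT := by rw [h', mul_one])
      have := hall (mT * d) h hne1 mT (Or.inr rfl) (by rwa [← mul_assoc, mT_mem.2.1, one_mul])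
      rw [map_mul, hc, D.el_mT] at this
      simpa using this
  obtain ⟨i, hi⟩ := hdc
  set u := (if i then D.t * c else c) with hu
  have huS : u ∈ (D.S : Subgroup G) := by
    have hcS : c ∈ (D.S : Subgroup G) := hc ▸ D.E_le_S (D.el_inV0_mem hmc)
    rcases i <;> simp [hu, hcS, mul_mem D.htS hcS]
  have huc : ∀ r ∈ (D.S : Subgroup G), r * u = u * r := by
    intro r hr
    have h1 : r * c = c * r := mul_inv_eq_iff_eq_mul.1 (hcf r hr)
    rcases i
    · simpa [hu] using h1
    · simp only [hu, if_true]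
      rw [← mul_assoc, D.hSt r hr, mul_assoc, h1, mul_assoc]
  obtain ⟨g, hg⟩ := isConj_iff.1 hi
  have hgS : ((g • D.S : Sylow 2 G) : Subgroup G) ≤ centralizer ({u} : Set G) := by
    intro y hy
    rw [Sylow.coe_subgroup_smul, Subgroup.mem_pointwise_smul_iff_inv_smul_mem] at hy
    have h2 : g⁻¹ * y * g * D.t = D.t * (g⁻¹ * y * g) :=
      D.hSt _ (by simpa [MulAut.smul_def, MulAut.conj_inv_apply] using hy)
    rw [mem_centralizer_singleton_iff, ← hg]
    calc y * (g * D.t * g⁻¹) = g * (g⁻¹ * y * g * D.t) * g⁻¹ := by group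
      _ = g * (D.t * (g⁻¹ * y * g)) * g⁻¹ := by rw [h2]
      _ = g * D.t * g⁻¹ * y := by group
  obtain ⟨k, hku, hkS⟩ := exists_conj_into D.S (g • D.S).isPGroup' hgS
    fun r hr => mem_centralizer_singleton_iff.2 (huc r hr)
  set n := k * g with hn
  have hnS : ∀ r ∈ (D.S : Subgroup G), n * r * n⁻¹ ∈ (D.S : Subgroup G) := fun r hr => by
    have := hkS (g * r * g⁻¹) (by
      rw [Sylow.coe_subgroup_smul, Subgroup.mem_pointwise_smul_iff_inv_smul_mem]
      simpa [MulAut.smul_def, MulAut.conj_inv_apply, mul_assoc] using hr)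
    simpa [hn, mul_assoc] using this
  have hnt : n * D.t * n⁻¹ = u := by
    calc n * D.t * n⁻¹ = k * (g * D.t * g⁻¹) * k⁻¹ := by rw [hn]; group
      _ = u := by rw [hg, mem_centralizer_singleton_iff.1 hku, mul_inv_cancel_right]
  have hnE : n ∈ normalizer (D.E : Set G) := D.conj_E_mem fun x hx => hnS x (D.E_le_S hx)
  -- the image of `c` is again `c`
  have hnc : n * c * n⁻¹ = c := by
    have hvE : n * D.el v * n⁻¹ ∈ D.E := (mem_normalizer_iff.1 hnE _).1 (D.el_inV0_mem hv)
    obtain ⟨w, hw, hwe⟩ := hvE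
    have hcimg : n * c * n⁻¹ = D.el w * (n * s * n⁻¹) * (D.el w)⁻¹ * (n * s * n⁻¹)⁻¹ := by
      rw [hwe, hccomm]; group
    have hs' := hnS s hs
    obtain ⟨p, q, hp, hq, hwq⟩ : ∃ p q : Mdl, inV0 p ∧ (q = 1 ∨ q = mT) ∧ w = q * p := by
      rcases E0_split w hw with h | h
      · exact ⟨w, 1, h, Or.inl rfl, (one_mul w).symm⟩
      · exact ⟨mT * w, mT, h, Or.inr rfl, by rw [← mul_assoc, mT_mem.2.1, one_mul]⟩
    have hqS : D.el q * (n * s * n⁻¹) = n * s * n⁻¹ * D.el q := by
      rcases hq with rfl | rfl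
      · simp
      · rw [D.el_mT, D.hSt _ hs']
    obtain ⟨p', hp', hpe⟩ := D.conj_inV0 (D.S_le hs') (hnorm _ hs') hp
    have himg : n * c * n⁻¹ = D.el (p * p') := by
      rw [hcimg, hwq, map_mul, map_mul, hpe]
      have e1 : D.el p * D.el p = 1 := D.E_sq (D.el_inV0_mem hp)
      have e3 : D.el q * D.el p = D.el p * D.el q := D.E_comm
        (D.el_mem_E.2 (by rcases hq with rfl | rfl; exacts [one_mem _, mT_mem.1])) (D.el_inV0_mem hp)
      rw [e3]
      calc D.el p * D.el q * (n * s * n⁻¹) * (D.el p * D.el q)⁻¹ * (n * s * n⁻¹)⁻¹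
          = D.el p * (D.el q * (n * s * n⁻¹)) * (D.el q)⁻¹ * (D.el p)⁻¹ * (n * s * n⁻¹)⁻¹ := by group
        _ = D.el p * (n * s * n⁻¹) * (D.el p)⁻¹ * (n * s * n⁻¹)⁻¹ := by rw [hqS]; group
        _ = _ := by rw [inv_eq_of_mul_eq_one_right e1]; group
    have hfix' : ∀ r ∈ (D.S : Subgroup G), r * (n * c * n⁻¹) * r⁻¹ = n * c * n⁻¹ := fun r hr => by
      have h1 := hcf _ (conj_inv_mem_of_le hnS r hr)
      calc r * (n * c * n⁻¹) * r⁻¹ = n * (n⁻¹ * r * n * c * (n⁻¹ * r * n)⁻¹) * n⁻¹ := by group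
        _ = n * c * n⁻¹ := by rw [h1]
    have hV : inV0 (p * p') := by
      refine inV0_of_mem (mul_mem hp.1 hp'.1) ?_
      rw [Prod.fst_mul, hp.2, hp'.2, one_mul]
    have hne1 : p * p' ≠ 1 := fun h => by
      rw [h, map_one, conj_eq_one_iff] at himg
      exact hmc1 (D.el_injective (by rw [hc, himg, map_one]))
    rw [himg] at hfix' ⊢
    rcases ((hlist (p * p') hV).resolve_left hne1) with h | h | h
    · exfalso
      have := hfix' s hs
      rw [h] at this
      exact hvne (mul_inv_eq_iff_eq_mul.1 this)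
    · exfalso
      have := hfix' s hs
      rw [h, hbe] at this
      exact hvne (mul_inv_eq_iff_eq_mul.1 (mul_left_cancel (mul_right_cancel this)))
    · rw [h, ← hc, hcvb]
  rcases i
  · -- `t` would be `c`
    simp only [hu, Bool.false_eq_true, if_false] at hnt
    have h1 : D.t = c := mul_left_cancel (mul_right_cancel (hnt.trans hnc.symm))
    rw [← hc, ← D.el_mT] at h1
    exact (inV0_mul mc hmc).2 (D.el_injective h1).symm
  · simp only [hu, if_true] at hnt
    have hcc : c * c = 1 := hc ▸ D.E_sq (D.el_inV0_mem hmc)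
    have h2 : n * (D.t * c) * n⁻¹ = D.t := by
      calc n * (D.t * c) * n⁻¹ = n * D.t * n⁻¹ * (n * c * n⁻¹) := by group
        _ = D.t := by rw [hnt, hnc, mul_assoc, hcc, mul_one]
    have hpow : ∀ k : ℕ, n ^ (2 * k) * D.t * (n ^ (2 * k))⁻¹ = D.t := by
      intro k
      induction k with
      | zero => simp
      | succ k ih =>
        calc n ^ (2 * (k + 1)) * D.t * (n ^ (2 * (k + 1)))⁻¹
            = n * (n * (n ^ (2 * k) * D.t * (n ^ (2 * k))⁻¹) * n⁻¹) * n⁻¹ := by
              rw [show 2 * (k + 1) = 2 * k + 1 + 1 from rfl, pow_succ', pow_succ']; group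
          _ = D.t := by rw [ih, hnt, h2]
    obtain ⟨a, o, ho, hno⟩ := Nat.exists_eq_two_pow_mul_odd (orderOf_pos n).ne'
    obtain ⟨j, hj⟩ := ho
    have ho2 : orderOf (n ^ o) = 2 ^ a := by
      rw [orderOf_pow_of_dvd (by omega) (hno ▸ dvd_mul_left o _), hno, Nat.mul_div_cancel _ (by omega)]
    have hmem : n ^ o ∈ (D.S : Subgroup G) :=
      mem_sylow_of_normalizes D.S ho2 (pow_mem (conj_mem_of_le hnS) o)
    have h3 : n ^ o * D.t * (n ^ o)⁻¹ = D.t := mul_inv_eq_iff_eq_mul.2 (D.hSt _ hmem)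
    have h4 : n ^ o * D.t * (n ^ o)⁻¹ = D.t * c := by
      calc n ^ o * D.t * (n ^ o)⁻¹ = n * (n ^ (2 * j) * D.t * (n ^ (2 * j))⁻¹) * n⁻¹ := by
            rw [hj, pow_succ']; group
        _ = D.t * c := by rw [hpow, hnt]
    have hc1 : c = 1 := by simpa using h3.symm.trans h4
    exact hmc1 (D.el_injective (by rw [hc, hc1, map_one]))

/-- The centraliser of `E` inside its normaliser has odd index: `2`-elements normalising `E` centralise it. -/
theorem two_mem_cent {y : G} {k : ℕ} (hy : orderOf y = 2 ^ k) (hn : y ∈ normalizer (D.E : Set G)) :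
    ∀ x ∈ D.E, y * x = x * y := by
  have : Fact (Nat.Prime 2) := ⟨Nat.prime_two⟩
  have hz : IsPGroup 2 (zpowers y) := IsPGroup.of_card (n := k) (by rw [Nat.card_zpowers, hy])
  have h := hz.to_sup_of_normal_right' D.E_isPGroup (zpowers_le.2 hn)
  obtain ⟨c, -, hc⟩ := exists_conj_into (Y := ⊤) D.S h le_top le_top
  have hcN : c ∈ normalizer (D.E : Set G) :=
    D.conj_E_mem fun x hx => hc x ((le_sup_right : D.E ≤ _) hx)
  intro x hx
  have h1 := D.S_cent (hc y ((le_sup_left : zpowers y ≤ _) (mem_zpowers y)))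
    ((mem_normalizer_iff.1 hcN x).1 hx)
  calc y * x = c⁻¹ * (c * y * c⁻¹ * (c * x * c⁻¹)) * c := by group
    _ = c⁻¹ * (c * x * c⁻¹ * (c * y * c⁻¹)) * c := by rw [h1]
    _ = x * y := by group

/-- The centraliser of `E` has odd index in its normaliser. -/
theorem odd_relIndex : Odd ((centralizer (D.E : Set G)).relIndex (normalizer (D.E : Set G))) := by
  have : Fact (Nat.Prime 2) := ⟨Nat.prime_two⟩
  rw [← Nat.not_even_iff_odd, even_iff_two_dvd]
  intro h
  refine D.S.not_dvd_index ((h.trans (relIndex_dvd_of_le_left _ (fun s hs => ?_))).trans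
    (relIndex_dvd_index_of_le fun s hs => conj_mem_of_le fun x hx => D.S_normalizes hs hx))
  exact mem_centralizer_iff.2 fun x hx => (D.S_cent hs hx).symm

end Hyp

end CfsgLib.Recog.JanType
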