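import Cfsg.Agent.Lib.Recog.JanType.Split
import Cfsg.Agent.Lib.Recog.J1Unique.Recognise
import Cfsg.Agent.Lib.Recog.JankoOneMultiplier

/-!
Owner: helper1. `L0 R` modulo `R` is `J₁`, and `L0` meets `R` trivially.
-/

set_option autoImplicit false
set_option maxRecDepth 100000
set_option synthInstance.maxSize 2000
set_option synthInstance.maxHeartbeats 200000

namespace CfsgLib.Recog.JanType

open Subgroup CfsgLib.Recog.J1Order
open scoped commutatorElement

/-- A conjugate times the square. -/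
def twist (a m : Mdl) : Mdl := a * m * a⁻¹ * (m * m)

theorem odd_normal_trivial : ∀ m : Mdl, m ^ 15 = 1 → m ≠ 1 →
    (twist mW m * twist mW m = 1 ∧ twist mW m ≠ 1) ∨
    (twist (mW * (1, pA)) m * twist (mW * (1, pA)) m = 1 ∧ twist (mW * (1, pA)) m ≠ 1) ∨
    (twist (mW * (1, qA)) m * twist (mW * (1, qA)) m = 1 ∧ twist (mW * (1, qA)) m ≠ 1) := by
  decide +kernel

/-- An involutive automorphism of a finite group without fixed points inverts every element. -/
theorem inverts_of_fpf {G : Type*} [Group G] [Finite G] {M : Subgroup G} {u : G} (hu : u * u = 1)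
    (hn : ∀ m ∈ M, u * m * u ∈ M) (hf : ∀ m ∈ M, u * m * u = m → m = 1) :
    ∀ m ∈ M, u * m * u = m⁻¹ := by
  let f : M → M := fun m => ⟨m.1⁻¹ * (u * m.1 * u), mul_mem (inv_mem m.2) (hn _ m.2)⟩
  have hfi : Function.Injective f := fun a b h => by
    have h' : a.1⁻¹ * (u * a.1 * u) = b.1⁻¹ * (u * b.1 * u) := congrArg (fun z : M => z.1) h
    have h1 : u * (b.1 * a.1⁻¹) * u = b.1 * a.1⁻¹ := by
      calc u * (b.1 * a.1⁻¹) * u = u * b.1 * u * (u * a.1 * u)⁻¹ * (u * u) := by group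
        _ = b.1 * (b.1⁻¹ * (u * b.1 * u)) * (u * a.1 * u)⁻¹ := by rw [hu, mul_one]; group
        _ = b.1 * a.1⁻¹ := by rw [← h']; group
    exact Subtype.ext (mul_inv_eq_one.1 (hf _ (mul_mem b.2 (inv_mem a.2)) h1)).symm
  intro m hm
  obtain ⟨a, ha⟩ := (Finite.injective_iff_surjective.1 hfi) ⟨m, hm⟩
  have h' : a.1⁻¹ * (u * a.1 * u) = m := congrArg (fun z : M => z.1) ha
  rw [← h']
  have hui : u⁻¹ = u := inv_eq_of_mul_eq_one_right hu
  calc u * (a.1⁻¹ * (u * a.1 * u)) * u = u * a.1⁻¹ * u * a.1 * (u * u) := by group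
    _ = (a.1⁻¹ * (u * a.1 * u))⁻¹ := by rw [hu, mul_one, mul_inv_rev, mul_inv_rev, mul_inv_rev, inv_inv, hui]; group

namespace Hyp

variable {G : Type*} [Group G] [Finite G] (D : Hyp G)

theorem mem_ER {x : G} (hx : x ∈ D.ER) : ∃ e ∈ D.E, ∃ r ∈ D.R, x = e * r := by
  have hle : D.E ≤ normalizer (D.R : Set G) := fun e he => conj_mem_of_le fun r hr =>
    D.conj_R (D.cent_E_norm (mem_centralizer_iff.2 fun y hy => D.E_comm hy he)) hr
  rw [ER, ← SetLike.mem_coe, coe_mul_of_left_le_normalizer_right _ _ hle] at hx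
  obtain ⟨e, he, r, hr, rfl⟩ := hx
  exact ⟨e, he, r, hr, rfl⟩

/-- Elements of the Sylow subgroup split over `E` and `R`. -/
theorem S_split {s : G} (hs : s ∈ (D.S : Subgroup G)) :
    ∃ e ∈ D.E, ∃ r ∈ D.R, r ∈ (D.S : Subgroup G) ∧ s = e * r := by
  have h : s ∈ centralizer (D.E : Set G) := mem_centralizer_iff.2 fun x hx => (D.S_cent hs hx).symm
  rw [D.cent_E_eq] at h
  obtain ⟨e, he, r, hr, rfl⟩ := D.mem_ER h
  refine ⟨e, he, r, hr, ?_, rfl⟩
  simpa using mul_mem (inv_mem (D.E_le_S he)) hs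

theorem S_le_H : (D.S : Subgroup G) ≤ D.H := D.S_le.trans D.cent_t_le_H

/-- An element of the weak closure in `R` is trivial. -/
theorem eq_one_of_wc {x : G} (hx : x ∈ wc D.t) (hR : x ∈ D.R) : x = 1 := by
  obtain ⟨m, rfl⟩ := D.exists_el hx
  rcases center_mdl m (fun n => D.el_injective (by
    rw [map_mul, map_mul]
    exact (D.R_cent hR (D.wct_le_L0 (D.el_mem n))).symm)) with rfl | rfl
  · exact map_one _
  · exact D.eq_one_of_mem (D.el_mem_E.2 mT_mem.1) hR

/-- An element centralising `t` modulo `R` centralises it. -/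
theorem cent_of_mod {g : G} (h : D.t⁻¹ * (g * D.t * g⁻¹) ∈ D.R) : g * D.t = D.t * g := by
  set r := D.t⁻¹ * (g * D.t * g⁻¹) with hr
  have hrt : r * D.t = D.t * r := D.R_cent h (D.wct_le_L0 (mem_wc_self D.t))
  have hu : g * D.t * g⁻¹ = D.t * r := by rw [hr, mul_inv_cancel_left]
  have hw : g * D.t * g⁻¹ ∈ wc D.t := D.mem_wc_of_conj (isConj_iff.2 ⟨g, rfl⟩)
    (by rw [hu, mul_assoc, hrt])
  have h1 : r = 1 := D.eq_one_of_wc (mul_mem (inv_mem (mem_wc_self D.t)) hw) h
  rw [h1, mul_one] at hu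
  exact mul_inv_eq_iff_eq_mul.1 hu

theorem cent_t_split {g : G} (hg : g ∈ centralizer ({D.t} : Set G)) :
    ∃ w ∈ wc D.t, ∃ r ∈ D.R, g = w * r := by
  obtain ⟨w, hw, hwK⟩ := D.cent_t_decomp hg
  have h := D.K_le hwK
  rw [D.cent_E_eq] at h
  obtain ⟨e, he, r, hr, her⟩ := D.mem_ER h
  exact ⟨w * e, mul_mem hw (D.E_le_wc he), r, hr, by rw [mul_assoc, ← her, mul_inv_cancel_left]⟩

omit [Finite G] in
theorem conj_R_H {h r : G} (hh : h ∈ D.H) (hr : r ∈ D.R) : h * r * h⁻¹ ∈ D.R := by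
  obtain ⟨l, hl, r', hr', rfl⟩ := D.mem_H hh
  have h1 : l * (r' * r * r'⁻¹) = r' * r * r'⁻¹ * l := (D.R_cent (mul_mem (mul_mem hr' hr) (inv_mem hr')) hl).symm
  have e : l * r' * r * (l * r')⁻¹ = l * (r' * r * r'⁻¹) * l⁻¹ := by group
  rw [e, h1, mul_inv_cancel_right]
  exact mul_mem (mul_mem hr' hr) (inv_mem hr')

instance R_normal : (D.R.subgroupOf D.H).Normal := ⟨fun _ hr h => D.conj_R_H h.2 hr⟩

/-- The quotient `H/R`. -/
abbrev Q : Type _ := D.H ⧸ D.R.subgroupOf D.H

/-- The projection. -/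
def proj : D.H →* D.Q := QuotientGroup.mk' _

omit [Finite G] in
theorem proj_surjective : Function.Surjective D.proj := QuotientGroup.mk'_surjective _

omit [Finite G] in
theorem proj_eq_one {x : D.H} : D.proj x = 1 ↔ (x : G) ∈ D.R :=
  (QuotientGroup.eq_one_iff _).trans mem_subgroupOf

omit [Finite G] in
theorem el_mem_H (m : Mdl) : D.el m ∈ D.H := (le_sup_left : D.L0 ≤ D.H) (D.wct_le_L0 (D.el_mem m))

/-- The model inside the quotient. -/
def qel : Mdl →* D.Q := D.proj.comp (D.el.codRestrict D.H D.el_mem_H)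

theorem qel_injective : Function.Injective D.qel := by
  rw [injective_iff_map_eq_one]
  intro m hm
  exact D.el_injective ((D.eq_one_of_wc (D.el_mem m) (D.proj_eq_one.1 hm)).trans (map_one D.el).symm)

/-- The image of `t`. -/
def qt : D.Q := D.qel mT

theorem qt_order : orderOf D.qt = 2 :=
  (orderOf_injective D.qel D.qel_injective mT).trans (orderOf_eq_prime (by rw [pow_two, mT_mem.2.1]) mT_mem.2.2.1)

theorem centralizer_qt : centralizer ({D.qt} : Set D.Q) = D.qel.range := by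
  ext x
  constructor
  · intro hx
    obtain ⟨g, rfl⟩ := D.proj_surjective x
    have h := mem_centralizer_singleton_iff.1 hx
    have hqt : D.qt = D.proj ⟨D.t, D.E_le_H D.t_mem_E⟩ :=
      congrArg D.proj (Subtype.ext D.el_mT)
    rw [hqt, ← map_mul, ← map_mul] at h
    have hR := (QuotientGroup.eq.1 h.symm)
    rw [mem_subgroupOf] at hR
    have h2 : D.t⁻¹ * ((g : G) * D.t * (g : G)⁻¹) ∈ D.R := by
      have := D.conj_R_H g.2 hR
      convert this using 1
      simp only [Subgroup.coe_mul, Subgroup.coe_inv]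
      group
    have hc : (g : G) ∈ centralizer ({D.t} : Set G) := mem_centralizer_singleton_iff.2 (D.cent_of_mod h2)
    obtain ⟨w, hw, r, hr, he⟩ := D.cent_t_split hc
    obtain ⟨m, rfl⟩ := D.exists_el hw
    refine ⟨m, ?_⟩
    show D.proj ⟨D.el m, D.el_mem_H m⟩ = D.proj g
    refine (QuotientGroup.eq.2 ?_)
    rw [mem_subgroupOf]
    simpa [he] using hr
  · rintro ⟨m, rfl⟩
    rw [mem_centralizer_singleton_iff, qt, ← map_mul, ← map_mul, mT_central m]

/-- The centraliser of the image of `t`. -/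
noncomputable def qIso : ↥(centralizer ({D.qt} : Set D.Q)) ≃* Mdl :=
  (MulEquiv.subgroupCongr D.centralizer_qt).trans (MonoidHom.ofInjective D.qel_injective).symm

/-- The Sylow subgroup of the quotient. -/
noncomputable def qS : Sylow 2 D.Q :=
  haveI : Fact (Nat.Prime 2) := ⟨Nat.prime_two⟩
  (D.S.subtype D.S_le_H).mapSurjective D.proj_surjective

theorem mem_qS {x : D.Q} : x ∈ (D.qS : Subgroup D.Q) ↔
    ∃ s : D.H, (s : G) ∈ (D.S : Subgroup G) ∧ D.proj s = x := Iff.rfl

theorem qt_two_central : Cfsg.IsTwoCentralInvolution D.qt := by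
  refine ⟨D.qt_order, D.qS, D.mem_qS.2 ⟨⟨D.el mT, D.el_mem_H mT⟩, (show D.el mT ∈ (D.S : Subgroup G) by rw [D.el_mT]; exact D.htS), rfl⟩, ?_⟩
  intro x hx
  obtain ⟨s, hs, rfl⟩ := D.mem_qS.1 hx
  show D.proj s * D.proj _ = D.proj _ * D.proj s
  rw [← map_mul, ← map_mul]
  exact congrArg D.proj (Subtype.ext (show (s : G) * D.el mT = D.el mT * s by rw [D.el_mT]; exact D.hSt _ hs))

theorem isSimpleGroup_Q : IsSimpleGroup D.Q := by
  classical
  have : Fact (Nat.Prime 2) := ⟨Nat.prime_two⟩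
  have hntriv : Nontrivial D.Q := ⟨D.qt, 1, fun h => by
    have := D.qt_order
    rw [h, orderOf_one] at this
    omega⟩
  refine ⟨fun M hM => ?_⟩
  set M' : Subgroup G := (M.comap D.proj).map D.H.subtype with hM'
  have hmem : ∀ x : D.H, (x : G) ∈ M' ↔ D.proj x ∈ M := fun x => by
    rw [hM']
    exact ⟨fun ⟨y, hy, he⟩ => Subtype.ext he ▸ hy, fun h => ⟨x, h, rfl⟩⟩
  have hR : D.R ≤ M' := fun r hr => (hmem ⟨r, (le_sup_right : D.R ≤ D.H) hr⟩).2
    (by rw [D.proj_eq_one.2 hr]; exact one_mem _)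
  have hle : M' ≤ D.H := by rintro _ ⟨y, -, rfl⟩; exact y.2
  have hconj : ∀ h ∈ D.H, ∀ x ∈ M', h * x * h⁻¹ ∈ M' := fun h hh x hx => by
    have := (hmem (⟨h, hh⟩ * ⟨x, hle hx⟩ * ⟨h, hh⟩⁻¹)).2
      (by rw [map_mul, map_mul, map_inv]; exact hM.conj_mem _ ((hmem ⟨x, hle hx⟩).1 hx) _)
    exact this
  by_cases hcase : ∃ u ∈ D.E, u ≠ 1 ∧ u ∈ M'
  · right
    obtain ⟨u, hu, hu1, huM⟩ := hcase
    have htM : D.t ∈ M' := by
      obtain ⟨l, hl, rfl⟩ := D.exists_mem_L0 hu hu1
      have := hconj l⁻¹ (inv_mem ((le_sup_left : D.L0 ≤ D.H) hl)) _ huM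
      convert this using 1
      group
    have hW : wc D.t ≤ M' := (closure_le _).2 fun x ⟨g, hg, hc⟩ => by
      subst hg
      have hxH : g * D.t * g⁻¹ ∈ D.H :=
        D.cent_t_le_H (mem_centralizer_singleton_iff.2 hc)
      exact hconj g (D.mem_H_of_conj hxH) _ htM
    have hL : D.L0 ≤ M' := (closure_le _).2 fun x ⟨v, hv, hv1, hx⟩ => by
      obtain ⟨l, hl, rfl⟩ := D.exists_mem_L0 hv hv1
      rw [← wc_conj_eq] at hx
      obtain ⟨y, hy, rfl⟩ := hx
      exact hconj l ((le_sup_left : D.L0 ≤ D.H) hl) y (hW hy)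
    refine eq_top_iff.2 fun q _ => ?_
    obtain ⟨g, rfl⟩ := D.proj_surjective q
    exact (hmem g).1 ((sup_le hL hR) g.2)
  · left
    push Not at hcase
    -- no involution
    have hodd : Odd (Nat.card M) := by
      rw [← Nat.not_even_iff_odd]
      intro he
      obtain ⟨⟨m, hm⟩, hmo⟩ := exists_prime_orderOf_dvd_card' (G := M) 2 (even_iff_two_dvd.1 he)
      rw [← Subgroup.orderOf_coe] at hmo
      simp only at hmo
      obtain ⟨c, -, hc⟩ := exists_conj_into (Y := ⊤) D.qS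
        (IsPGroup.of_card (n := 1) (by rw [Nat.card_zpowers, hmo, pow_one]) : IsPGroup 2 (zpowers m)) le_top le_top
      obtain ⟨s, hs, hse⟩ := D.mem_qS.1 (hc m (mem_zpowers m))
      have hsM : (s : G) ∈ M' := (hmem s).2 (hse ▸ hM.conj_mem m hm c)
      obtain ⟨e, he', r, hr, -, her⟩ := D.S_split hs
      have heM : e ∈ M' := by
        have := mul_mem hsM (inv_mem (hR hr))
        rw [her, mul_inv_cancel_right] at this
        exact this
      have he1 : e = 1 := by
        by_contra h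
        exact hcase e he' h heM
      have : c * m * c⁻¹ = 1 := by
        rw [← hse, D.proj_eq_one, her, he1, one_mul]
        exact hr
      rw [conj_eq_one_iff.1 this, orderOf_one] at hmo
      omega
    have hfix : ∀ x ∈ M, x * D.qt = D.qt * x → x = 1 := by
      intro x hx hxt
      obtain ⟨m, rfl⟩ : x ∈ D.qel.range := D.centralizer_qt ▸ mem_centralizer_singleton_iff.2 hxt
      by_contra hne
      have hm1 : m ≠ 1 := fun h => hne (by rw [h, map_one])
      have hpow : ∀ k : Mdl, D.qel k ∈ M → k ^ 15 = 1 := by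
        intro k hk
        have h1 : orderOf k ∣ Nat.card M := by
          rw [← orderOf_injective D.qel D.qel_injective k]
          exact Subgroup.orderOf_dvd_natCard M hk
        have h2 : orderOf k ∣ 2 * 15 := orderOf_dvd_of_pow_eq_one (by simpa using (model_two_element k).1)
        have h3 : Nat.Coprime (orderOf k) 2 := (Nat.coprime_two_right).2 (hodd.of_dvd_nat h1)
        exact orderOf_dvd_iff_pow_eq_one.1 (h3.dvd_of_dvd_mul_left h2)
      obtain ⟨a, ha2, ha1⟩ : ∃ a, twist a m * twist a m = 1 ∧ twist a m ≠ 1 := by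
        rcases odd_normal_trivial m (hpow m hx) hm1 with h | h | h <;> exact ⟨_, h⟩
      have hk : D.qel (twist a m) ∈ M := by
        rw [twist, map_mul, map_mul, map_mul, map_mul, map_inv]
        exact mul_mem (hM.conj_mem _ hx _) (mul_mem hx hx)
      refine ha1 ?_
      calc twist a m = twist a m ^ 15 * ((twist a m * twist a m) ^ 7)⁻¹ := by
            rw [← pow_two, ← pow_mul, pow_succ' _ 14, mul_inv_cancel_right]
        _ = 1 := by rw [ha2, hpow _ hk, one_pow, inv_one, mul_one]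
    -- every involution of the image of `E` inverts the odd normal subgroup
    have hEfix : ∀ u : Mdl, u ∈ E0 → u ≠ 1 → ∀ x ∈ M, x * D.qel u = D.qel u * x → x = 1 := by
      intro u hu hu1 x hx hxu
      obtain ⟨l, hl, hle'⟩ := D.exists_mem_L0 (D.el_mem_E.2 hu) fun h => hu1 (D.el_injective (h.trans (map_one D.el).symm))
      set c := D.proj ⟨l, (le_sup_left : D.L0 ≤ D.H) hl⟩ with hc
      have hcu : D.qel u = c * D.qt * c⁻¹ := by
        rw [hc, qt, qel, MonoidHom.comp_apply, MonoidHom.comp_apply, ← map_inv, ← map_mul, ← map_mul]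
        exact congrArg D.proj (Subtype.ext (show D.el u = l * D.el mT * l⁻¹ by rw [D.el_mT, hle']))
      have h1 := hfix (c⁻¹ * x * c) (by simpa using hM.conj_mem x hx c⁻¹) (by
        calc c⁻¹ * x * c * D.qt = c⁻¹ * (x * D.qel u) * c := by rw [hcu]; group
          _ = c⁻¹ * (D.qel u * x) * c := by rw [hxu]
          _ = D.qt * (c⁻¹ * x * c) := by rw [hcu]; group)
      calc x = c * (c⁻¹ * x * c) * c⁻¹ := by group
        _ = 1 := by rw [h1]; group
    refine (eq_bot_iff_forall M).2 fun x hx => ?_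
    have hinv : ∀ u : Mdl, u ∈ E0 → u ≠ 1 → D.qel u * x * D.qel u = x⁻¹ := fun u hu hu1 => by
      have hsq : D.qel u * D.qel u = 1 := by rw [← map_mul, E0_sq u hu, map_one]
      refine inverts_of_fpf (M := M) hsq (fun m hm => ?_) (fun m hm h => hEfix u hu hu1 m hm ?_) x hx
      · have := hM.conj_mem m hm (D.qel u)
        rwa [inv_eq_of_mul_eq_one_right hsq] at this
      · calc m * D.qel u = D.qel u * m * D.qel u * D.qel u := by rw [h]
          _ = D.qel u * m := by rw [mul_assoc, hsq, mul_one]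
    obtain ⟨d, hd, hd1, hdT, -⟩ := D.exists_other
    have h1 := hinv d hd hd1
    have h2 := hinv mT mT_mem.1 mT_mem.2.2.1
    refine hEfix (d * mT) (mul_mem hd mT_mem.1) (fun h => hdT ?_) x hx ?_
    · calc d = d * mT * mT := by rw [mul_assoc, mT_mem.2.1, mul_one]
        _ = mT := by rw [h, one_mul]
    · have hd2 : D.qel d * D.qel d = 1 := by rw [← map_mul, E0_sq d hd, map_one]
      have hT2 : D.qel mT * D.qel mT = 1 := by rw [← map_mul, mT_mem.2.1, map_one]
      have h3 : D.qel d * x⁻¹ * D.qel d = x := by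
        rw [← h1, ← mul_assoc, ← mul_assoc, hd2, one_mul, mul_assoc, hd2, mul_one]
      rw [map_mul]
      calc x * (D.qel d * D.qel mT) = D.qel d * x⁻¹ * (D.qel d * D.qel d) * D.qel mT := by
            conv_lhs => rw [← h3]
            group
        _ = D.qel d * (D.qel mT * x * D.qel mT) * D.qel mT := by rw [hd2, mul_one, h2]
        _ = D.qel d * D.qel mT * x := by
            rw [mul_assoc, mul_assoc (D.qel mT * x), hT2, mul_one, mul_assoc]

/-- `H/R` is `J₁`. -/
theorem iso_Q : Nonempty (D.Q ≃* Cfsg.Spor.J1) :=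
  haveI := D.isSimpleGroup_Q
  J1Unique.iso_J1 D.qt D.qt_two_central D.qIso

omit [Finite G] in
theorem el_fst_mem_commutator {m : Mdl} (hm : m.1 = 1) : D.el m ∈ ⁅D.L0, D.L0⁆ := by
  obtain ⟨a, b, hab⟩ := perfect_A5 m.2
  have he : m = ⁅((1, a) : Mdl), (1, b)⁆ := Prod.ext (by simpa [commutatorElement_def] using hm)
    (by simpa [commutatorElement_def] using hab)
  rw [he, map_commutatorElement]
  exact commutator_mem_commutator (D.wct_le_L0 (D.el_mem _)) (D.wct_le_L0 (D.el_mem _))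

theorem L0_perfect : D.L0 ≤ ⁅D.L0, D.L0⁆ := by
  have hnorm : ∀ l ∈ D.L0, ∀ x ∈ ⁅D.L0, D.L0⁆, l * x * l⁻¹ ∈ ⁅D.L0, D.L0⁆ := fun l hl x hx => by
    have h : ⁅(l : G), x⁆ ∈ ⁅D.L0, D.L0⁆ :=
      commutator_mem_commutator hl (commutator_le_self D.L0 hx)
    have := mul_mem h hx
    rwa [commutatorElement_def, inv_mul_cancel_right] at this
  have hpa : D.el (1, pA) ∈ D.E := D.el_mem_E.2 pA_facts.1.1
  obtain ⟨l, hl, hle⟩ := D.exists_mem_L0 hpa fun h => pA_facts.2 (D.el_injective (h.trans (map_one D.el).symm))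
  have ht : D.t ∈ ⁅D.L0, D.L0⁆ := by
    have := hnorm l⁻¹ (inv_mem hl) _ (D.el_fst_mem_commutator (m := (1, pA)) rfl)
    rw [← hle] at this
    convert this using 1
    group
  have hW : wc D.t ≤ ⁅D.L0, D.L0⁆ := fun x hx => by
    obtain ⟨m, rfl⟩ := D.exists_el hx
    rcases (show m.1 = 1 ∨ (mT * m).1 = 1 by
      have := two_elements m.1
      by_cases h : m.1 = 1
      · exact Or.inl h
      · exact Or.inr (this.1.2 h)) with h | h
    · exact D.el_fst_mem_commutator h
    · have h2 := D.el_fst_mem_commutator h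
      rw [map_mul, D.el_mT] at h2
      simpa using mul_mem (inv_mem ht) h2
  refine (closure_le _).2 fun x ⟨v, hv, hv1, hx⟩ => ?_
  obtain ⟨k, hk, rfl⟩ := D.exists_mem_L0 hv hv1
  rw [← wc_conj_eq] at hx
  obtain ⟨y, hy, rfl⟩ := hx
  exact hnorm k hk y (hW hy)

theorem L0_inf_R : D.L0 ⊓ D.R = ⊥ := by
  obtain ⟨f⟩ := D.iso_Q
  let σ0 : D.L0 →* Cfsg.Spor.J1 :=
    f.toMonoidHom.comp (D.proj.comp (Subgroup.inclusion (le_sup_left : D.L0 ≤ D.H)))
  have hker0 : ∀ x : D.L0, σ0 x = 1 ↔ (x : G) ∈ D.R := fun x => by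
    show f (D.proj _) = 1 ↔ _
    rw [MulEquiv.map_eq_one_iff, D.proj_eq_one]
    rfl
  let Γ := {_n : Fin (Nat.card D.L0) // True}
  let φ : Γ ≃ D.L0 := (Equiv.subtypeUnivEquiv fun _ => trivial).trans (Finite.equivFin D.L0).symm
  letI : Group Γ := φ.group
  let φ' : Γ ≃* D.L0 := Equiv.mulEquiv φ
  have hperf : (⊤ : Subgroup Γ) ≤ commutator Γ := by
    have h1 : (⊤ : Subgroup D.L0) ≤ commutator D.L0 := fun x _ => by
      have h2 := D.L0_perfect x.2
      rw [← map_subtype_commutator] at h2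
      obtain ⟨y, hy, he⟩ := h2
      exact Subtype.ext he ▸ hy
    intro z _
    have h3 := mem_map_of_mem φ'.symm.toMonoidHom (h1 (mem_top (φ' z)))
    have h4 : (commutator D.L0).map φ'.symm.toMonoidHom ≤ commutator Γ := by
      rw [commutator_def, commutator_def, map_commutator]
      exact commutator_mono le_top le_top
    simpa using h4 h3
  let σ : Γ →* Cfsg.Spor.J1 := σ0.comp φ'.toMonoidHom
  have hstem : Cfsg.IsStemExtension σ := by
    refine ⟨?_, fun z hz => ?_, fun z _ => hperf (mem_top z)⟩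
    · intro q
      obtain ⟨h, hh⟩ := D.proj_surjective (f.symm q)
      obtain ⟨l, hl, r, hr, he⟩ := D.mem_H h.2
      refine ⟨φ'.symm ⟨l, hl⟩, ?_⟩
      show σ0 (φ' (φ'.symm ⟨l, hl⟩)) = q
      rw [φ'.apply_symm_apply]
      show f (D.proj ⟨l, _⟩) = q
      rw [← f.eq_symm_apply, ← hh]
      refine QuotientGroup.eq.2 (mem_subgroupOf.2 ?_)
      simpa [he] using hr
    · rw [MonoidHom.mem_ker] at hz
      have hzR : (φ' z : G) ∈ D.R := (hker0 _).1 hz
      refine mem_center_iff.2 fun y => φ'.injective (Subtype.ext ?_)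
      rw [map_mul, map_mul, coe_mul, coe_mul]
      exact (D.R_cent hzR (φ' y).2).symm
  obtain ⟨π, hπ⟩ := (JankoOne.multiplier_trivial).2 Γ σ hstem
  refine (eq_bot_iff_forall _).2 fun x ⟨hxL, hxR⟩ => ?_
  have hz : φ'.symm ⟨x, hxL⟩ ∈ σ.ker := by
    rw [MonoidHom.mem_ker]
    show σ0 (φ' _) = 1
    rw [φ'.apply_symm_apply, hker0]
    exact hxR
  obtain ⟨a, ha⟩ := hπ ⟨_, hz⟩
  rw [Subsingleton.elim a 1, map_one] at ha
  have h1 : φ'.symm ⟨x, hxL⟩ = 1 := (congrArg (fun w : σ.ker => w.1) ha).symm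
  have h2 := congrArg φ' h1
  rw [φ'.apply_symm_apply, map_one] at h2
  exact congrArg (fun w : D.L0 => w.1) h2

end Hyp

end CfsgLib.Recog.JanType
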