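import Cfsg.Agent.Lib.Recog.JanType.Facts
import Cfsg.Agent.Lib.Signalizer.Involutions

/-!
Owner: helper1. An involution central in a Sylow `2`-subgroup whose weak closure in its centraliser is
`Z₂ × A₅`: the local structure at the elementary abelian subgroup of order eight.
-/

set_option autoImplicit false

namespace CfsgLib.Recog.JanType

open Subgroup CfsgLib.Recog.J1Order

variable {G : Type*} [Group G]

/-- The weak closure of an element in its centraliser. -/
def wc (t : G) : Subgroup G := closure {x : G | ∃ g : G, x = g * t * g⁻¹ ∧ x * t = t * x}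

theorem mem_wc_self (t : G) : t ∈ wc t := subset_closure ⟨1, by simp, rfl⟩

theorem wc_le_centralizer (t : G) : wc t ≤ centralizer ({t} : Set G) := by
  rw [wc, closure_le]
  rintro x ⟨g, -, hx⟩
  exact mem_centralizer_singleton_iff.2 hx

theorem wc_conj_mem {t g x : G} (hx : x ∈ wc t) : g * x * g⁻¹ ∈ wc (g * t * g⁻¹) := by
  refine closure_induction (fun y hy => ?_) (by simp) (fun a b _ _ ha hb => ?_) (fun a _ ha => ?_) hx
  · obtain ⟨h, rfl, hc⟩ := hy
    refine subset_closure ⟨g * h * g⁻¹, by group, ?_⟩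
    calc g * (h * t * h⁻¹) * g⁻¹ * (g * t * g⁻¹) = g * (h * t * h⁻¹ * t) * g⁻¹ := by group
      _ = g * (t * (h * t * h⁻¹)) * g⁻¹ := by rw [hc]
      _ = _ := by group
  · have := mul_mem ha hb
    convert this using 1
    group
  · have := inv_mem ha
    convert this using 1
    group

theorem wc_conj_eq (t g : G) : (wc t).map (MulAut.conj g).toMonoidHom = wc (g * t * g⁻¹) := by
  refine le_antisymm ?_ fun x hx => ?_
  · rintro _ ⟨x, hx, rfl⟩
    exact wc_conj_mem hx
  · refine ⟨g⁻¹ * x * g, ?_, by simp [mul_assoc]⟩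
    simpa [mul_assoc] using wc_conj_mem (g := g⁻¹) hx

theorem conj_mem_of_le [Finite G] {A : Subgroup G} {g : G} (h : ∀ x ∈ A, g * x * g⁻¹ ∈ A) :
    g ∈ normalizer (A : Set G) := by
  have he : A.map (MulAut.conj g).toMonoidHom = A :=
    eq_of_le_of_card_ge (by rintro _ ⟨x, hx, rfl⟩; exact h x hx)
      (card_map_of_injective (K := A) (MulAut.conj g).injective).ge
  refine mem_normalizer_iff.2 fun x => ⟨h x, fun hx => ?_⟩
  rw [← he] at hx
  obtain ⟨y, hy, hyx⟩ := hx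
  have : y = x := mul_left_cancel (mul_right_cancel (show g * y * g⁻¹ = g * x * g⁻¹ from hyx))
  rwa [← this]

theorem conj_inv_mem_of_le [Finite G] {A : Subgroup G} {g : G} (h : ∀ x ∈ A, g * x * g⁻¹ ∈ A) :
    ∀ x ∈ A, g⁻¹ * x * g ∈ A := fun x hx => by
  have := (mem_normalizer_iff.1 (inv_mem (conj_mem_of_le h)) x).1 hx
  rwa [inv_inv] at this

/-- A `2`-subgroup of `Y` is conjugate inside `Y` into any Sylow `2`-subgroup of the group lying in `Y`. -/
theorem exists_conj_into [Finite G] {A Y : Subgroup G} (Q : Sylow 2 G) (hA : IsPGroup 2 A) (hAY : A ≤ Y)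
    (hQY : (Q : Subgroup G) ≤ Y) : ∃ c ∈ Y, ∀ a ∈ A, c * a * c⁻¹ ∈ (Q : Subgroup G) := by
  have : Fact (Nat.Prime 2) := ⟨Nat.prime_two⟩
  obtain ⟨P, hP⟩ := (hA.of_equiv (subgroupOfEquivOfLe hAY).symm).exists_le_sylow
  obtain ⟨c, hc⟩ := MulAction.exists_smul_eq Y P (Q.subtype hQY)
  refine ⟨c, c.2, fun a ha => ?_⟩
  have h1 : c * ⟨a, hAY ha⟩ * c⁻¹ ∈ ((Q.subtype hQY : Sylow 2 Y) : Subgroup Y) := by
    rw [← hc, Sylow.coe_subgroup_smul, Subgroup.mem_pointwise_smul_iff_inv_smul_mem]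
    refine (?_ : (MulAut.conj c)⁻¹ • (c * ⟨a, hAY ha⟩ * c⁻¹) ∈ (P : Subgroup Y))
    simp only [MulAut.smul_def, MulAut.conj_inv_apply]
    have : c⁻¹ * (c * ⟨a, hAY ha⟩ * c⁻¹) * c = ⟨a, hAY ha⟩ := by group
    rw [this]
    exact hP (mem_subgroupOf.2 ha)
  exact h1

/-- A `2`-element normalising a Sylow `2`-subgroup lies in it. -/
theorem mem_sylow_of_normalizes [Finite G] (S : Sylow 2 G) {y : G} {k : ℕ} (hy : orderOf y = 2 ^ k)
    (hn : y ∈ normalizer ((S : Subgroup G) : Set G)) : y ∈ (S : Subgroup G) := by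
  have : Fact (Nat.Prime 2) := ⟨Nat.prime_two⟩
  have hz : IsPGroup 2 (zpowers y) := IsPGroup.of_card (n := k) (by rw [Nat.card_zpowers, hy])
  have h := hz.to_sup_of_normal_right' S.isPGroup' (zpowers_le.2 hn)
  have := S.is_maximal' h le_sup_right
  exact this ▸ (le_sup_left : zpowers y ≤ _) (mem_zpowers y)

/-- The hypothesis. -/
structure Hyp (G : Type*) [Group G] where
  t : G
  ht : orderOf t = 2
  S : Sylow 2 G
  htS : t ∈ (S : Subgroup G)
  hSt : ∀ s ∈ (S : Subgroup G), s * t = t * s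
  e : ↥(wc t) ≃* Mdl
  hE : ∀ x : ↥(wc t), e x ∈ E0 ↔ (x : G) ∈ (S : Subgroup G)

theorem exists_hyp [Finite G] (t : G) (ht : orderOf t = 2) (S : Sylow 2 G) (htS : t ∈ (S : Subgroup G))
    (hSt : ∀ s ∈ (S : Subgroup G), s * t = t * s) (e : ↥(wc t) ≃* Mdl) :
    ∃ D : Hyp G, D.t = t ∧ D.S = S := by
  have : Fact (Nat.Prime 2) := ⟨Nat.prime_two⟩
  set f : Mdl →* G := (wc t).subtype.comp e.symm.toMonoidHom with hf
  have hfi : Function.Injective f := fun a b h => e.symm.injective (Subtype.ext h)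
  have hA : IsPGroup 2 (E0.map f) :=
    IsPGroup.of_card (n := 3) (by rw [card_map_of_injective (K := E0) hfi, card_E0]; norm_num)
  have hAY : E0.map f ≤ centralizer ({t} : Set G) := by
    rintro _ ⟨m, -, rfl⟩
    exact wc_le_centralizer t (e.symm m).2
  obtain ⟨c, hc, hcS⟩ := exists_conj_into S hA hAY fun s hs => mem_centralizer_singleton_iff.2 (hSt s hs)
  have hct : c * t * c⁻¹ = t := by rw [mem_centralizer_singleton_iff.1 hc, mul_inv_cancel_right]
  have hcW : ∀ w ∈ wc t, c * w * c⁻¹ ∈ wc t := fun w hw => by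
    have := wc_conj_mem (g := c) hw
    rwa [hct] at this
  -- the intersection with the Sylow subgroup, in the model
  set P : Subgroup Mdl := ((S : Subgroup G).subgroupOf (wc t)).map e.toMonoidHom with hP
  have hmemP : ∀ x : ↥(wc t), e x ∈ P ↔ (x : G) ∈ (S : Subgroup G) := fun x => by
    rw [hP, mem_map_equiv, mem_subgroupOf, MulEquiv.symm_apply_apply]
  have hPp : IsPGroup 2 P := (S.isPGroup'.comap_subtype).map e.toMonoidHom
  let B : Subgroup Mdl := E0.map
    (e.toMonoidHom.comp (({ toFun := fun w => ⟨c * w.1 * c⁻¹, hcW _ w.2⟩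
                            map_one' := Subtype.ext (by simp)
                            map_mul' := fun a b => Subtype.ext (by simp [mul_assoc]) } : ↥(wc t) →* ↥(wc t)).comp
      e.symm.toMonoidHom))
  have hBc : Nat.card B = 8 := by
    rw [card_map_of_injective (K := E0), card_E0]
    intro a b hab
    exact e.symm.injective
      (Subtype.ext (mul_left_cancel (mul_right_cancel (congrArg Subtype.val (e.injective hab)))))
  have hBP : B ≤ P := by
    rintro _ ⟨m, hm, rfl⟩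
    exact (hmemP _).2 (hcS _ ⟨m, hm, rfl⟩)
  have hPc : Nat.card P = 8 := by
    obtain ⟨k, hk⟩ := IsPGroup.iff_card.1 hPp
    have h1 : 2 ^ k ∣ 2 ^ 3 * 15 := by
      have := card_subgroup_dvd_card P
      rw [hk, card_model] at this
      simpa using this
    have h2 : k ≤ 3 := (Nat.pow_dvd_pow_iff_le_right (by norm_num)).1
      ((Nat.Coprime.pow_left k (by norm_num : Nat.Coprime 2 15)).dvd_of_dvd_mul_right h1)
    have h3 : 2 ^ 3 ∣ 2 ^ k := hk ▸ (by simpa [hBc] using card_dvd_of_le hBP)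
    have h4 := (Nat.pow_dvd_pow_iff_le_right (by norm_num)).1 h3
    rw [hk, show k = 3 by omega]
    norm_num
  have hfac : (Nat.card Mdl).factorization 2 = 3 := by
    rw [card_model, show (120 : ℕ) = 2 ^ 3 * 15 from rfl, Nat.factorization_mul (by norm_num) (by norm_num),
      Nat.Prime.factorization_pow Nat.prime_two, Finsupp.add_apply, Finsupp.single_eq_same,
      Nat.factorization_eq_zero_of_not_dvd (by norm_num : ¬ 2 ∣ 15)]
  obtain ⟨m, hm⟩ := MulAction.exists_smul_eq Mdl (Sylow.ofCard P (by rw [hPc, hfac]; norm_num))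
    (Sylow.ofCard E0 (by rw [card_E0, hfac]; norm_num))
  have hm' : ∀ x : Mdl, x ∈ P ↔ m * x * m⁻¹ ∈ E0 := fun x => by
    have h := congrArg (fun T : Sylow 2 Mdl => m * x * m⁻¹ ∈ (T : Subgroup Mdl)) hm
    simp only [Sylow.coe_subgroup_smul, Sylow.coe_ofCard, Subgroup.mem_pointwise_smul_iff_inv_smul_mem,
      MulAut.smul_def, MulAut.conj_inv_apply] at h
    rw [← h]
    simp [mul_assoc]
  refine ⟨⟨t, ht, S, htS, hSt, e.trans (MulAut.conj m), fun x => ?_⟩, rfl, rfl⟩
  exact (hm' (e x)).symm.trans (hmemP x)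

namespace Hyp

variable (D : Hyp G)

/-- The embedding of the model. -/
def el : Mdl →* G := (wc D.t).subtype.comp D.e.symm.toMonoidHom

theorem el_injective : Function.Injective D.el := fun _ _ h => D.e.symm.injective (Subtype.ext h)

theorem el_mem (m : Mdl) : D.el m ∈ wc D.t := (D.e.symm m).2

theorem exists_el {x : G} (hx : x ∈ wc D.t) : ∃ m : Mdl, D.el m = x :=
  ⟨D.e ⟨x, hx⟩, by simp [el]⟩

theorem el_mem_S {m : Mdl} : D.el m ∈ (D.S : Subgroup G) ↔ m ∈ E0 := by
  rw [← D.e.apply_symm_apply m, D.hE]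
  simp [el]

/-- The elementary abelian subgroup of order eight. -/
def E : Subgroup G := E0.map D.el

theorem el_mem_E {m : Mdl} : D.el m ∈ D.E ↔ m ∈ E0 :=
  ⟨fun ⟨_, h, he⟩ => D.el_injective he ▸ h, fun h => ⟨m, h, rfl⟩⟩

theorem E_le_S : D.E ≤ (D.S : Subgroup G) := by
  rintro _ ⟨m, hm, rfl⟩
  exact D.el_mem_S.2 hm

theorem E_le_wc : D.E ≤ wc D.t := by
  rintro _ ⟨m, -, rfl⟩
  exact D.el_mem m

theorem mem_E_iff {x : G} : x ∈ D.E ↔ x ∈ wc D.t ∧ x ∈ (D.S : Subgroup G) := by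
  refine ⟨fun h => ⟨D.E_le_wc h, D.E_le_S h⟩, fun ⟨h1, h2⟩ => ?_⟩
  obtain ⟨m, rfl⟩ := D.exists_el h1
  exact D.el_mem_E.2 (D.el_mem_S.1 h2)

theorem S_le : (D.S : Subgroup G) ≤ centralizer ({D.t} : Set G) :=
  fun s hs => mem_centralizer_singleton_iff.2 (D.hSt s hs)

theorem t_ne_one : D.t ≠ 1 := fun h => by simpa [h] using D.ht

theorem el_mT : D.el mT = D.t := by
  obtain ⟨m, hm⟩ := D.exists_el (mem_wc_self D.t)
  rcases center_mdl m (fun n => D.el_injective (by
    rw [map_mul, map_mul, hm]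
    exact mem_centralizer_singleton_iff.1 (wc_le_centralizer D.t (D.el_mem n)))) with rfl | rfl
  · exact absurd (hm.symm.trans (map_one D.el)) D.t_ne_one
  · exact hm

theorem t_mem_E : D.t ∈ D.E := D.mem_E_iff.2 ⟨mem_wc_self D.t, D.htS⟩

theorem E_comm {x y : G} (hx : x ∈ D.E) (hy : y ∈ D.E) : x * y = y * x := by
  obtain ⟨a, ha, rfl⟩ := hx
  obtain ⟨b, hb, rfl⟩ := hy
  rw [← map_mul, ← map_mul, E0_comm a ha b hb]

theorem E_sq {x : G} (hx : x ∈ D.E) : x * x = 1 := by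
  obtain ⟨a, ha, rfl⟩ := hx
  rw [← map_mul, E0_sq a ha, map_one]

theorem mem_wc_of_conj {u : G} (hu : IsConj D.t u) (hc : u * D.t = D.t * u) : u ∈ wc D.t := by
  obtain ⟨g, rfl⟩ := isConj_iff.1 hu
  exact subset_closure ⟨g, rfl, hc⟩

theorem mem_E_of_conj {u : G} (hu : IsConj D.t u) (hS : u ∈ (D.S : Subgroup G)) : u ∈ D.E :=
  D.mem_E_iff.2 ⟨D.mem_wc_of_conj hu (D.hSt u hS), hS⟩

theorem wc_normal {x w : G} (hx : x ∈ centralizer ({D.t} : Set G)) (hw : w ∈ wc D.t) :
    x * w * x⁻¹ ∈ wc D.t := by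
  have := wc_conj_mem (g := x) hw
  rwa [mem_centralizer_singleton_iff.1 hx, mul_inv_cancel_right] at this

theorem exists_other : ∃ d : Mdl, d ∈ E0 ∧ d ≠ 1 ∧ d ≠ mT ∧ IsConj D.t (D.el d) := by
  by_contra hno
  push Not at hno
  have hall : wc D.t ≤ zpowers D.t := by
    refine (closure_le _).2 ?_
    rintro x ⟨g, rfl, hc⟩
    have hconj : IsConj D.t (g * D.t * g⁻¹) := isConj_iff.2 ⟨g, rfl⟩
    obtain ⟨m, hm⟩ := D.exists_el (D.mem_wc_of_conj hconj hc)
    have hsq : m * m = 1 := D.el_injective (by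
      rw [map_mul, hm, map_one, show g * D.t * g⁻¹ * (g * D.t * g⁻¹) = g * (D.t * D.t) * g⁻¹ by group,
        ← pow_two, ← D.ht, pow_orderOf_eq_one]
      group)
    obtain ⟨n, hn⟩ := inv_conj m hsq
    by_contra hx
    have h1 : n * m * n⁻¹ ≠ 1 := fun h => by
      have : m = 1 := by
        calc m = n⁻¹ * (n * m * n⁻¹) * n := by group
          _ = 1 := by rw [h]; group
      rw [this, map_one] at hm
      exact D.t_ne_one (by
        calc D.t = g⁻¹ * (g * D.t * g⁻¹) * g := by group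
          _ = 1 := by rw [← hm]; group)
    have h2 : n * m * n⁻¹ ≠ mT := fun h => by
      have hm2 : m = mT := by
        calc m = n⁻¹ * (n * m * n⁻¹) * n := by group
          _ = mT := by rw [h, mul_assoc, ← mT_central n, inv_mul_cancel_left]
      rw [hm2, D.el_mT] at hm
      exact hx (hm ▸ mem_zpowers D.t)
    exact hno _ hn h1 h2 (hconj.trans (isConj_iff.2 ⟨D.el n, by rw [map_mul, map_mul, map_inv, hm]⟩))
  have h := Subgroup.card_dvd_of_le hall
  rw [Nat.card_zpowers, D.ht, Nat.card_congr D.e.toEquiv, card_model] at h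
  norm_num at h

variable [Finite G]

/-- `E` is weakly closed in the Sylow subgroup. -/
theorem conj_E_mem {g : G} (h : ∀ x ∈ D.E, g * x * g⁻¹ ∈ (D.S : Subgroup G)) :
    g ∈ normalizer (D.E : Set G) := by
  refine conj_mem_of_le fun x hx => ?_
  obtain ⟨d, hd, hd1, hdT, hdc⟩ := D.exists_other
  have hgen : ∀ m : Mdl, m ∈ E0 → IsConj D.t (D.el m) → MulAut.conj g (D.el m) ∈ D.E := fun m hm hc =>
    D.mem_E_of_conj (hc.trans (isConj_iff.2 ⟨g, rfl⟩)) (h _ (D.el_mem_E.2 hm))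
  have hdw : IsConj D.t (D.el (mW * d * mW⁻¹)) :=
    hdc.trans (isConj_iff.2 ⟨D.el mW, by rw [map_mul, map_mul, map_inv]⟩)
  obtain ⟨y, hy, rfl⟩ := hx
  obtain ⟨a, b, c, rfl⟩ := E0_gen d hd hd1 hdT y hy
  have hw' := hgen _ (mW_norm d hd) hdw
  show MulAut.conj g (D.el _) ∈ D.E
  generalize mW * d * mW⁻¹ = q at hw' ⊢
  simp only [map_mul, map_pow]
  exact mul_mem (mul_mem (pow_mem (hgen _ mT_mem.1 (by rw [D.el_mT])) _) (pow_mem (hgen d hd hdc) _))
    (pow_mem hw' _)

omit [Finite G] in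
theorem E_isPGroup : IsPGroup 2 D.E := D.S.isPGroup'.to_le D.E_le_S

/-- Conjugates of `t` inside `E` are conjugate under the normaliser of `E`. -/
theorem fuse {u : G} (hu : u ∈ D.E) (hc : IsConj D.t u) :
    ∃ h ∈ normalizer (D.E : Set G), h * D.t * h⁻¹ = u := by
  obtain ⟨g, hg⟩ := isConj_iff.1 hc
  have hQ : (((g • D.S : Sylow 2 G)) : Subgroup G) ≤ centralizer ({u} : Set G) := by
    intro y hy
    rw [Sylow.coe_subgroup_smul, Subgroup.mem_pointwise_smul_iff_inv_smul_mem] at hy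
    have h2 : g⁻¹ * y * g * D.t = D.t * (g⁻¹ * y * g) :=
      D.hSt _ (by simpa [MulAut.smul_def, MulAut.conj_inv_apply] using hy)
    rw [mem_centralizer_singleton_iff, ← hg]
    calc y * (g * D.t * g⁻¹) = g * (g⁻¹ * y * g * D.t) * g⁻¹ := by group
      _ = g * (D.t * (g⁻¹ * y * g)) * g⁻¹ := by rw [h2]
      _ = g * D.t * g⁻¹ * y := by group
  obtain ⟨c, hcu, hcQ⟩ := exists_conj_into (g • D.S) D.E_isPGroup
    (fun x hx => mem_centralizer_singleton_iff.2 (D.E_comm hx hu)) hQ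
  have hn : g⁻¹ * c ∈ normalizer (D.E : Set G) := D.conj_E_mem fun x hx => by
    have h3 := hcQ x hx
    rw [Sylow.coe_subgroup_smul, Subgroup.mem_pointwise_smul_iff_inv_smul_mem] at h3
    simpa [MulAut.smul_def, MulAut.conj_inv_apply, mul_assoc] using h3
  refine ⟨c⁻¹ * g, by simpa using inv_mem hn, ?_⟩
  calc c⁻¹ * g * D.t * (c⁻¹ * g)⁻¹ = c⁻¹ * (g * D.t * g⁻¹) * c := by group
    _ = u := by rw [hg, mul_assoc, ← mem_centralizer_singleton_iff.1 hcu, inv_mul_cancel_left]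

end Hyp

end CfsgLib.Recog.JanType
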