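import Cfsg.Agent.Lib.Recog.JanType.Fusion

/-!
Owner: helper1. The centraliser of `E` is `E × R`, where `R` centralises the subgroup `L0` generated by the
conjugate weak closures; `L0 R` contains `C(t)` and `N(E)`.
-/

set_option autoImplicit false

namespace CfsgLib.Recog.JanType

open Subgroup CfsgLib.Recog.J1Order

theorem modEq_of_eq {a b n : ℕ} (h : a = b) : a ≡ b [MOD n] := by rw [h]

/-- A permutation of order three of a finite set has as many fixed points as points, modulo three. -/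
theorem card_modEq_fixed {α : Type*} [Finite α] (f : Equiv.Perm α) (hf : f ^ 3 = 1) :
    Nat.card α ≡ Nat.card {a : α // f a = a} [MOD 3] := by
  have : Fact (Nat.Prime 3) := ⟨Nat.prime_three⟩
  have hp : IsPGroup 3 (zpowers f) := by
    rintro ⟨g, k, rfl⟩
    refine ⟨1, Subtype.ext ?_⟩
    show (f ^ k) ^ (3 ^ 1) = 1
    rw [pow_one, ← zpow_natCast, ← zpow_mul, mul_comm, zpow_mul, zpow_natCast, hf, one_zpow]
  refine (hp.card_modEq_card_fixedPoints α).trans (modEq_of_eq (Nat.card_congr (Equiv.subtypeEquivRight fun a => ?_)))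
  constructor
  · intro h
    exact h ⟨f, mem_zpowers f⟩
  · rintro h ⟨g, k, rfl⟩
    show (f ^ k) a = a
    exact Function.IsFixedPt.perm_zpow h k

namespace Hyp

variable {G : Type*} [Group G] [Finite G] (D : Hyp G)

omit [Finite G] in
theorem el_mW_norm : D.el mW ∈ {g : G | ∀ x ∈ D.E, g * x * g⁻¹ ∈ D.E} := fun x hx => by
  obtain ⟨a, ha, rfl⟩ := hx
  rw [← map_inv, ← map_mul, ← map_mul]
  exact D.el_mem_E.2 (mW_norm a ha)

/-- For every involution of `E` the weak closure has a three-element normalising `E` and fixing only it. -/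
theorem exists_rot {u : G} (hu : u ∈ D.E) (h1 : u ≠ 1) :
    ∃ w ∈ wc u, w ∈ normalizer (D.E : Set G) ∧ w ^ 3 = 1 ∧
      ∀ x ∈ D.E, w * x * w⁻¹ = x → x = 1 ∨ x = u := by
  obtain ⟨h, hh, rfl⟩ := D.fuse hu (D.conj_of_mem_E hu h1)
  refine ⟨h * D.el mW * h⁻¹, wc_conj_mem (D.el_mem mW),
    mul_mem (mul_mem hh (conj_mem_of_le D.el_mW_norm)) (inv_mem hh), ?_, fun x hx he => ?_⟩
  · rw [conj_pow, ← map_pow, pow_three', mW_facts.1, map_one]; group
  · have hx' : h⁻¹ * x * h ∈ D.E := by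
      have := (mem_normalizer_iff.1 (inv_mem hh) x).1 hx
      rwa [inv_inv] at this
    obtain ⟨a, ha, hae⟩ := hx'
    have hfix : mW * a * mW⁻¹ = a := D.el_injective (by
      rw [map_mul, map_mul, map_inv, hae]
      calc D.el mW * (h⁻¹ * x * h) * (D.el mW)⁻¹ = h⁻¹ * (h * D.el mW * h⁻¹ * x * (h * D.el mW * h⁻¹)⁻¹) * h := by
            group
        _ = h⁻¹ * x * h := by rw [he])
    rcases mW_fix a ha hfix with rfl | rfl
    · left
      rw [map_one] at hae
      calc x = h * (h⁻¹ * x * h) * h⁻¹ := by group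
        _ = 1 := by rw [← hae]; group
    · right
      rw [D.el_mT] at hae
      calc x = h * (h⁻¹ * x * h) * h⁻¹ := by group
        _ = h * D.t * h⁻¹ := by rw [← hae]

/-- The centraliser of `E` splits over the centraliser of every conjugate weak closure. -/
theorem cent_E_decomp' {u : G} (hu : u ∈ D.E) (h1 : u ≠ 1) {y : G} (hy : y ∈ centralizer (D.E : Set G)) :
    ∃ v ∈ D.E, v⁻¹ * y ∈ centralizer (wc u : Set G) := by
  obtain ⟨h, hh, rfl⟩ := D.fuse hu (D.conj_of_mem_E hu h1)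
  have hy' : h⁻¹ * y * h ∈ centralizer (D.E : Set G) := mem_centralizer_iff.2 fun x hx => by
    have := mem_centralizer_iff.1 hy _ ((mem_normalizer_iff.1 hh x).1 hx)
    calc x * (h⁻¹ * y * h) = h⁻¹ * (h * x * h⁻¹ * y) * h := by group
      _ = h⁻¹ * (y * (h * x * h⁻¹)) * h := by rw [this]
      _ = _ := by group
  obtain ⟨v, hv, hvK⟩ := D.cent_E_decomp hy'
  refine ⟨h * v * h⁻¹, (mem_normalizer_iff.1 hh v).1 hv, mem_centralizer_iff.2 fun x hx => ?_⟩
  have hx' : h⁻¹ * x * h ∈ wc D.t := by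
    have := wc_conj_mem (g := h⁻¹) hx
    convert this using 2 <;> group
  have := mem_centralizer_iff.1 hvK _ hx'
  calc x * ((h * v * h⁻¹)⁻¹ * y) = h * (h⁻¹ * x * h * (v⁻¹ * (h⁻¹ * y * h))) * h⁻¹ := by group
    _ = h * (v⁻¹ * (h⁻¹ * y * h) * (h⁻¹ * x * h)) * h⁻¹ := by rw [this]
    _ = _ := by group

/-- The subgroup generated by the weak closures of the involutions of `E`. -/
def L0 : Subgroup G := closure {x : G | ∃ u ∈ D.E, u ≠ 1 ∧ x ∈ wc u}

/-- The centraliser of `L0`. -/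
def R : Subgroup G := centralizer (D.L0 : Set G)

/-- The subgroup `L0 R`. -/
def H : Subgroup G := D.L0 ⊔ D.R

omit [Finite G] in
theorem wc_le_L0 {u : G} (hu : u ∈ D.E) (h1 : u ≠ 1) : wc u ≤ D.L0 :=
  fun x hx => subset_closure ⟨u, hu, h1, hx⟩

omit [Finite G] in
theorem wct_le_L0 : wc D.t ≤ D.L0 := D.wc_le_L0 D.t_mem_E D.t_ne_one

omit [Finite G] in
theorem R_le : D.R ≤ centralizer (D.E : Set G) := centralizer_le (D.E_le_wc.trans D.wct_le_L0)

omit [Finite G] in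
theorem E_le_H : D.E ≤ D.H := (D.E_le_wc.trans D.wct_le_L0).trans le_sup_left

omit [Finite G] in
theorem mem_R {y : G} (h : ∀ u ∈ D.E, u ≠ 1 → y ∈ centralizer (wc u : Set G)) : y ∈ D.R := by
  rw [R, L0, centralizer_closure]
  refine mem_centralizer_iff.2 fun x hx => ?_
  obtain ⟨u, hu, h1, hxu⟩ := hx
  exact mem_centralizer_iff.1 (h u hu h1) x hxu

omit [Finite G] in
theorem R_cent {r x : G} (hr : r ∈ D.R) (hx : x ∈ D.L0) : r * x = x * r :=
  (mem_centralizer_iff.1 hr x hx).symm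

theorem eq_one_of_mem {x : G} (hE : x ∈ D.E) (hR : x ∈ D.R) : x = 1 := by
  obtain ⟨d, hd, hd1, hdT, -⟩ := D.exists_other
  have key : ∀ u ∈ D.E, u ≠ 1 → x = 1 ∨ x = u := fun u hu h1 => by
    obtain ⟨w, hw, -, -, hfix⟩ := D.exists_rot hu h1
    refine hfix x hE ?_
    rw [← D.R_cent hR (D.wc_le_L0 hu h1 hw), mul_inv_cancel_right]
  rcases key D.t D.t_mem_E D.t_ne_one with h | h
  · exact h
  · rcases key (D.el d) (D.el_mem_E.2 hd) (fun h' => hd1 (D.el_injective (h'.trans (map_one D.el).symm))) with h' | h'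
    · exact h'
    · exact absurd (D.el_injective (h'.symm.trans (h.trans D.el_mT.symm))) hdT

omit [Finite G] in
theorem conj_wc {n u : G} (hn : n ∈ normalizer (D.E : Set G)) (hu : u ∈ D.E) (h1 : u ≠ 1) {x : G}
    (hx : x ∈ wc u) : n * x * n⁻¹ ∈ D.L0 :=
  D.wc_le_L0 ((mem_normalizer_iff.1 hn u).1 hu) (fun h => h1 (conj_eq_one_iff.1 h)) (wc_conj_mem hx)

omit [Finite G] in
theorem conj_L0 {n x : G} (hn : n ∈ normalizer (D.E : Set G)) (hx : x ∈ D.L0) : n * x * n⁻¹ ∈ D.L0 := by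
  refine closure_induction (fun y hy => ?_) (by simp) (fun a b _ _ ha hb => ?_) (fun a _ ha => ?_) hx
  · obtain ⟨u, hu, h1, hy⟩ := hy
    exact D.conj_wc hn hu h1 hy
  · convert mul_mem ha hb using 1
    group
  · convert inv_mem ha using 1
    group

omit [Finite G] in
theorem conj_R {n y : G} (hn : n ∈ normalizer (D.E : Set G)) (hy : y ∈ D.R) : n * y * n⁻¹ ∈ D.R := by
  refine mem_centralizer_iff.2 fun x hx => ?_
  have h := D.R_cent hy (D.conj_L0 (inv_mem hn) hx)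
  rw [inv_inv] at h
  calc x * (n * y * n⁻¹) = n * (n⁻¹ * x * n * y) * n⁻¹ := by group
    _ = n * (y * (n⁻¹ * x * n)) * n⁻¹ := by rw [h]
    _ = _ := by group

omit [Finite G] in
theorem cent_E_norm : centralizer (D.E : Set G) ≤ normalizer (D.E : Set G) := fun c hc => by
  refine mem_normalizer_iff.2 fun x => ⟨fun hx => ?_, fun hx => ?_⟩
  · rwa [← mem_centralizer_iff.1 hc x hx, mul_inv_cancel_right]
  · have := mem_centralizer_iff.1 hc _ hx
    have h2 : c * x * c⁻¹ = x := by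
      have h3 : c * (c * x * c⁻¹) = c * x := by rw [← this]; group
      exact mul_left_cancel h3
    rwa [← h2]

/-- Commutators and squares of `C(E)` lie in `R`. -/
theorem comm_mem {x y : G} (hx : x ∈ centralizer (D.E : Set G)) (hy : y ∈ centralizer (D.E : Set G)) :
    x * y * x⁻¹ * y⁻¹ ∈ D.R ∧ x * x ∈ D.R := by
  constructor <;> refine D.mem_R fun u hu h1 => ?_
  all_goals
    obtain ⟨v, hv, hvk⟩ := D.cent_E_decomp' hu h1 hx
    obtain ⟨v', hv', hvk'⟩ := D.cent_E_decomp' hu h1 hy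
    set k := v⁻¹ * x with hk
    set k' := v'⁻¹ * y with hk'
    have hx' : x = v * k := by rw [hk, mul_inv_cancel_left]
    have hy' : y = v' * k' := by rw [hk', mul_inv_cancel_left]
    have hcx : ∀ e ∈ D.E, x * e = e * x := fun e he => (mem_centralizer_iff.1 hx e he).symm
    have hcy : ∀ e ∈ D.E, y * e = e * y := fun e he => (mem_centralizer_iff.1 hy e he).symm
    have hck : ∀ e ∈ D.E, k * e = e * k := fun e he => by
      rw [hk, mul_assoc, hcx e he, ← mul_assoc, D.E_comm (inv_mem hv) he, mul_assoc]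
    have hck' : ∀ e ∈ D.E, k' * e = e * k' := fun e he => by
      rw [hk', mul_assoc, hcy e he, ← mul_assoc, D.E_comm (inv_mem hv') he, mul_assoc]
  · have e1 : x * y * x⁻¹ * y⁻¹ = k * k' * k⁻¹ * k'⁻¹ := by
      rw [hx', hy']
      calc v * k * (v' * k') * (v * k)⁻¹ * (v' * k')⁻¹
          = v * (k * v') * k' * k⁻¹ * v⁻¹ * (k'⁻¹ * v'⁻¹) := by group
        _ = v * v' * (k * k' * k⁻¹ * v⁻¹) * (v' * k')⁻¹ := by rw [hck v' hv']; group
        _ = v * v' * (v⁻¹ * (k * k' * k⁻¹)) * (v' * k')⁻¹ := by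
            have h2 : k * k' * k⁻¹ * v⁻¹ = v⁻¹ * (k * k' * k⁻¹) := by
              have a1 : Commute k v⁻¹ := hck _ (inv_mem hv)
              have a2 : Commute k' v⁻¹ := hck' _ (inv_mem hv)
              exact ((a1.mul_left a2).mul_left a1.inv_left).eq
            rw [h2]
        _ = k * k' * k⁻¹ * k'⁻¹ * (v'⁻¹ * v') := by
            rw [D.E_comm hv hv']
            have h3 : v' * (k * k' * k⁻¹) = k * k' * k⁻¹ * v' := by
              have a1 : Commute k v' := hck _ hv'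
              have a2 : Commute k' v' := hck' _ hv'
              exact ((a1.mul_left a2).mul_left a1.inv_left).eq.symm
            calc v' * v * (v⁻¹ * (k * k' * k⁻¹)) * (v' * k')⁻¹
                = v' * (k * k' * k⁻¹) * k'⁻¹ * v'⁻¹ := by group
              _ = k * k' * k⁻¹ * (v' * k'⁻¹) * v'⁻¹ := by rw [h3]; group
              _ = k * k' * k⁻¹ * (k'⁻¹ * v') * v'⁻¹ := by
                  rw [← (show Commute k' v' from hck' _ hv').inv_left.eq]
              _ = _ := by group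
        _ = _ := by group
    rw [e1]
    exact mul_mem (mul_mem (mul_mem hvk hvk') (inv_mem hvk)) (inv_mem hvk')
  · have e1 : x * x = k * k := by
      rw [hx']
      calc v * k * (v * k) = v * (k * v) * k := by group
        _ = v * v * (k * k) := by rw [hck v hv]; group
        _ = k * k := by rw [D.E_sq hv, one_mul]
    rw [e1]
    exact mul_mem hvk hvk

/-- A subgroup containing `C(E)` and the normaliser parts of the weak closures contains `N(E)`. -/
theorem norm_le (Γ : Subgroup G) (h1 : centralizer (D.E : Set G) ≤ Γ)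
    (h2 : ∀ u ∈ D.E, u ≠ 1 → ∀ w ∈ wc u, w ∈ normalizer (D.E : Set G) → w ∈ Γ) :
    normalizer (D.E : Set G) ≤ Γ ∧
      ∀ u ∈ D.E, u ≠ 1 → ∃ g ∈ Γ, g ∈ normalizer (D.E : Set G) ∧ g * D.t * g⁻¹ = u := by
  classical
  set O : Set G := {x | ∃ g ∈ Γ, g ∈ normalizer (D.E : Set G) ∧ g * D.t * g⁻¹ = x} with hO
  have hOE : ∀ x ∈ O, x ∈ D.E := fun x ⟨g, _, hg, he⟩ => he ▸ (mem_normalizer_iff.1 hg _).1 D.t_mem_E
  have hstable : ∀ w ∈ Γ, w ∈ normalizer (D.E : Set G) → ∀ x ∈ O, w * x * w⁻¹ ∈ O := by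
    rintro w hw hwn x ⟨g, hg, hgn, rfl⟩
    exact ⟨w * g, mul_mem hw hg, mul_mem hwn hgn, by group⟩
  have key : ∀ u ∈ D.E, u ≠ 1 → Nat.card O ≡ (if u ∈ O then 1 else 0) [MOD 3] := by
    intro u hu hu1
    obtain ⟨w, hw, hwn, hw3, hfix⟩ := D.exists_rot hu hu1
    have hwΓ := h2 u hu hu1 w hw hwn
    have hwu : w * u * w⁻¹ = u := by
      rw [mem_centralizer_singleton_iff.1 (wc_le_centralizer u hw), mul_inv_cancel_right]
    let f : Equiv.Perm O :=
      { toFun := fun x => ⟨w * x.1 * w⁻¹, hstable w hwΓ hwn x.1 x.2⟩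
        invFun := fun x => ⟨w⁻¹ * x.1 * (w⁻¹)⁻¹, hstable w⁻¹ (inv_mem hwΓ) (inv_mem hwn) x.1 x.2⟩
        left_inv := fun x => Subtype.ext (show w⁻¹ * (w * x.1 * w⁻¹) * (w⁻¹)⁻¹ = x.1 by group)
        right_inv := fun x => Subtype.ext (show w * (w⁻¹ * x.1 * (w⁻¹)⁻¹) * w⁻¹ = x.1 by group) }
    have hf : f ^ 3 = 1 := Equiv.ext fun x => Subtype.ext
      (show w * (w * (w * x.1 * w⁻¹) * w⁻¹) * w⁻¹ = x.1 by
        calc w * (w * (w * x.1 * w⁻¹) * w⁻¹) * w⁻¹ = w ^ 3 * x.1 * (w ^ 3)⁻¹ := by rw [pow_three']; group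
          _ = x.1 := by rw [hw3]; group)
    refine (card_modEq_fixed f hf).trans (modEq_of_eq ?_)
    have hne : ∀ x : O, x.1 ≠ 1 := fun x h => by
      obtain ⟨g, -, -, he⟩ := x.2
      rw [h, conj_eq_one_iff] at he
      exact D.t_ne_one he
    split_ifs with hO'
    · rw [Nat.card_eq_one_iff_unique]
      refine ⟨⟨fun a b => ?_⟩, ⟨⟨⟨u, hO'⟩, Subtype.ext hwu⟩⟩⟩
      have ha := (hfix _ (hOE _ a.1.2) (congrArg (fun z : O => z.1) a.2)).resolve_left (hne a.1)
      have hb := (hfix _ (hOE _ b.1.2) (congrArg (fun z : O => z.1) b.2)).resolve_left (hne b.1)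
      exact Subtype.ext (Subtype.ext (ha.trans hb.symm))
    · have : IsEmpty {a : O // f a = a} := ⟨fun a => hO'
        ((hfix _ (hOE _ a.1.2) (congrArg (fun z : O => z.1) a.2)).resolve_left (hne a.1) ▸ a.1.2)⟩
      exact Nat.card_of_isEmpty
  have hall : ∀ u ∈ D.E, u ≠ 1 → u ∈ O := fun u hu hu1 => by
    by_contra hno
    have ha := key u hu hu1
    have hb := key D.t D.t_mem_E D.t_ne_one
    rw [if_neg hno] at ha
    rw [if_pos ⟨1, one_mem _, one_mem _, by group⟩] at hb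
    exact absurd (ha.symm.trans hb) (by decide)
  refine ⟨fun g hg => ?_, fun u hu hu1 => hall u hu hu1⟩
  obtain ⟨γ, hγ, hγn, hγe⟩ := hall (g * D.t * g⁻¹) ((mem_normalizer_iff.1 hg _).1 D.t_mem_E)
    (fun h => D.t_ne_one (conj_eq_one_iff.1 h))
  have hy : γ⁻¹ * g ∈ centralizer ({D.t} : Set G) := by
    rw [mem_centralizer_singleton_iff]
    calc γ⁻¹ * g * D.t = γ⁻¹ * (g * D.t * g⁻¹) * g := by group
      _ = D.t * (γ⁻¹ * g) := by rw [← hγe]; group
  obtain ⟨i, hi⟩ := D.norm_decomp hy (mul_mem (inv_mem hγn) hg)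
  have hwΓ : D.el mW ∈ Γ := h2 D.t D.t_mem_E D.t_ne_one _ (D.el_mem mW) (conj_mem_of_le D.el_mW_norm)
  have h4 := mul_mem (mul_mem hγ (pow_mem hwΓ i)) (h1 hi)
  have e : γ * D.el mW ^ i * ((D.el mW ^ i)⁻¹ * (γ⁻¹ * g)) = g := by group
  rwa [e] at h4

/-- The subgroup `E R`. -/
def ER : Subgroup G := D.E ⊔ D.R

omit [Finite G] in
theorem ER_le : D.ER ≤ centralizer (D.E : Set G) :=
  sup_le (fun x hx => mem_centralizer_iff.2 fun y hy => D.E_comm hy hx) D.R_le

omit [Finite G] in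
theorem conj_ER {n x : G} (hn : n ∈ normalizer (D.E : Set G)) (hx : x ∈ D.ER) : n * x * n⁻¹ ∈ D.ER := by
  have hle : D.ER ≤ D.ER.comap (MulAut.conj n).toMonoidHom :=
    sup_le (fun y hy => mem_comap.2 ((le_sup_left : D.E ≤ _) ((mem_normalizer_iff.1 hn y).1 hy)))
      (fun y hy => mem_comap.2 ((le_sup_right : D.R ≤ _) (D.conj_R hn hy)))
  exact hle hx

/-- `C(E) = E R`. -/
theorem cent_E_eq : centralizer (D.E : Set G) = D.ER := by
  classical
  refine le_antisymm (fun x hx => ?_) D.ER_le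
  set N := normalizer (D.E : Set G) with hN
  set C := centralizer (D.E : Set G) with hC
  -- everything in `N` acts trivially on `C` modulo `E R`
  let Γ : Subgroup G :=
    { carrier := {g | g ∈ N ∧ ∀ y ∈ C, g * y * g⁻¹ * y⁻¹ ∈ D.ER}
      one_mem' := ⟨one_mem _, fun y _ => by simp⟩
      mul_mem' := by
        rintro a b ⟨ha, ha'⟩ ⟨hb, hb'⟩
        refine ⟨mul_mem ha hb, fun y hy => ?_⟩
        have e : a * b * y * (a * b)⁻¹ * y⁻¹ = a * (b * y * b⁻¹ * y⁻¹) * a⁻¹ * (a * y * a⁻¹ * y⁻¹) := by group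
        rw [e]
        exact mul_mem (D.conj_ER ha (hb' y hy)) (ha' y hy)
      inv_mem' := by
        rintro a ⟨ha, ha'⟩
        refine ⟨inv_mem ha, fun y hy => ?_⟩
        have h := inv_mem (D.conj_ER (inv_mem ha) (ha' y hy))
        convert h using 1
        group }
  have hΓ : N ≤ Γ := by
    refine (D.norm_le Γ (fun c hc => ⟨D.cent_E_norm hc, fun y hy => ?_⟩) fun u hu hu1 w hw hwn => ⟨hwn, fun y hy => ?_⟩).1
    · exact (le_sup_right : D.R ≤ D.ER) (D.comm_mem hc hy).1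
    · obtain ⟨v, hv, hvk⟩ := D.cent_E_decomp' hu hu1 hy
      refine (le_sup_left : D.E ≤ D.ER) ?_
      have hk : w * (v⁻¹ * y) = v⁻¹ * y * w := mem_centralizer_iff.1 hvk w hw
      have e : w * y * w⁻¹ * y⁻¹ = w * v * w⁻¹ * v⁻¹ := by
        calc w * y * w⁻¹ * y⁻¹ = w * v * (w⁻¹ * (w * (v⁻¹ * y))) * w⁻¹ * y⁻¹ := by group
          _ = w * v * w⁻¹ * v⁻¹ := by rw [hk]; group
      rw [e]
      exact mul_mem ((mem_normalizer_iff.1 hwn v).1 hv) (inv_mem hv)
  -- the abelian quotient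
  have hRn : (D.R.subgroupOf C).Normal :=
    ⟨fun r hr c => D.conj_R (D.cent_E_norm c.2) hr⟩
  letI : CommGroup (C ⧸ D.R.subgroupOf C) :=
    { (inferInstance : Group (C ⧸ D.R.subgroupOf C)) with
      mul_comm := by
        intro a b
        induction a using QuotientGroup.induction_on with
        | _ a =>
          induction b using QuotientGroup.induction_on with
          | _ b =>
            rw [← QuotientGroup.mk_mul, ← QuotientGroup.mk_mul]
            refine (QuotientGroup.eq.2 ?_).symm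
            have h := (D.comm_mem (inv_mem a.2) (inv_mem b.2)).1
            refine mem_subgroupOf.2 ?_
            simpa [mul_assoc] using h }
  let π : C →* C ⧸ D.R.subgroupOf C := QuotientGroup.mk' _
  have hπ : ∀ a b : C, π a = π b ↔ (a : G)⁻¹ * b ∈ D.R := fun a b => QuotientGroup.eq.trans mem_subgroupOf
  have hnC : ∀ n ∈ N, ∀ y ∈ C, n * y * n⁻¹ ∈ C := fun n hn y hy => mem_centralizer_iff.2 fun e he => by
    have h' := (mem_normalizer_iff.1 (inv_mem hn) e).1 he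
    rw [inv_inv] at h'
    have h2 := mem_centralizer_iff.1 hy _ h'
    calc e * (n * y * n⁻¹) = n * (n⁻¹ * e * n * y) * n⁻¹ := by group
      _ = n * (y * (n⁻¹ * e * n)) * n⁻¹ := by rw [h2]
      _ = _ := by group
  set CN := C.subgroupOf N
  have := Fintype.ofFinite (N ⧸ CN)
  let term : N ⧸ CN → C := fun q => ⟨(q.out : G) * x * (q.out : G)⁻¹, hnC _ q.out.2 x hx⟩
  obtain ⟨y, hy⟩ := QuotientGroup.mk'_surjective (D.R.subgroupOf C) (∏ q, π (term q))
  -- `y` is fixed modulo `R`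
  have hfix : ∀ n (hn : n ∈ N), (n * (y : G) * n⁻¹)⁻¹ * y ∈ D.R := by
    intro n hn
    let φ : C ⧸ D.R.subgroupOf C →* C ⧸ D.R.subgroupOf C :=
      QuotientGroup.map _ _
        { toFun := fun c => ⟨n * c.1 * n⁻¹, hnC n hn c.1 c.2⟩
          map_one' := Subtype.ext (by simp)
          map_mul' := fun a b => Subtype.ext (by simp [mul_assoc]) }
        (fun r hr => D.conj_R hn hr)
    have hterm : ∀ q, φ (π (term q)) = π (term ((⟨n, hn⟩ : N) • q)) := by
      intro q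
      show π ⟨n * ((q.out : G) * x * (q.out : G)⁻¹) * n⁻¹, _⟩ = π (term _)
      rw [hπ]
      have hout : (((⟨n, hn⟩ : N) * q.out : N) : N ⧸ CN) = ((((⟨n, hn⟩ : N) • q).out : N) : N ⧸ CN) := by
        conv_rhs => rw [QuotientGroup.out_eq']
        conv_rhs => rw [← QuotientGroup.out_eq' q]
        rfl
      have hc := mem_subgroupOf.1 (QuotientGroup.eq.1 hout)
      set p := (((⟨n, hn⟩ : N) • q).out : G) with hp
      set c := (((⟨n, hn⟩ : N) * q.out)⁻¹ * (((⟨n, hn⟩ : N) • q).out) : N).1 with hcdef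
      have hpc : p = n * (q.out : G) * c := by rw [hcdef, hp]; simp [mul_assoc]
      have hcom := (D.comm_mem hc hx).1
      have hnq : n * (q.out : G) ∈ N := mul_mem hn q.out.2
      have h5 := D.conj_R hnq (D.conj_R (inv_mem (D.cent_E_norm hx)) hcom)
      show (n * ((q.out : G) * x * (q.out : G)⁻¹) * n⁻¹)⁻¹ * (p * x * p⁻¹) ∈ D.R
      rw [hpc]
      convert h5 using 1
      group
    have hsum : φ (∏ q, π (term q)) = ∏ q, π (term q) := by
      rw [map_prod, Finset.prod_congr rfl fun q _ => hterm q]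
      exact Fintype.prod_equiv (MulAction.toPerm (⟨n, hn⟩ : N)) _ _ fun q => rfl
    rw [← hy] at hsum
    exact (hπ ⟨n * (y : G) * n⁻¹, hnC n hn _ y.2⟩ y).1 hsum
  have hyR : (y : G) ∈ D.R := D.mem_R fun u hu hu1 => by
    obtain ⟨v, hv, hvk⟩ := D.cent_E_decomp' hu hu1 y.2
    obtain ⟨w, hw, hwn, -, hfixw⟩ := D.exists_rot hu hu1
    have hk : w * (v⁻¹ * y) = v⁻¹ * y * w := mem_centralizer_iff.1 hvk w hw
    have h5 : (y : G) * (w * y * w⁻¹)⁻¹ ∈ D.R := by
      have h6 := D.conj_R (D.cent_E_norm (hnC w hwn _ y.2)) (hfix w hwn)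
      convert h6 using 1
      group
    have e : (y : G) * (w * y * w⁻¹)⁻¹ = v * (w * v * w⁻¹)⁻¹ := by
      calc (y : G) * (w * y * w⁻¹)⁻¹ = v * (v⁻¹ * y) * (w * v * (w⁻¹ * (w * (v⁻¹ * y))) * w⁻¹)⁻¹ := by group
        _ = v * (w * v * w⁻¹)⁻¹ := by rw [hk]; group
    rw [e] at h5
    have h7 := D.eq_one_of_mem (mul_mem hv (inv_mem ((mem_normalizer_iff.1 hwn v).1 hv))) h5
    have hv' : v ∈ centralizer (wc u : Set G) := by
      rcases hfixw v hv (mul_inv_eq_one.1 h7).symm with rfl | rfl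
      · exact one_mem _
      · exact mem_centralizer_iff.2 fun z hz => mem_centralizer_singleton_iff.1 (wc_le_centralizer v hz)
    have := mul_mem hv' hvk
    rwa [mul_inv_cancel_left] at this
  -- hence `x ∈ E R`
  have hxx : x ^ Fintype.card (N ⧸ CN) * x⁻¹ ∈ D.ER := by
    have hodd : Odd (Fintype.card (N ⧸ CN)) := by
      rw [← Nat.card_eq_fintype_card, ← index_eq_card]
      exact D.odd_relIndex
    obtain ⟨m, hm⟩ := hodd
    rw [hm, pow_succ, mul_inv_cancel_right, pow_mul, pow_two]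
    exact (le_sup_right : D.R ≤ D.ER) (pow_mem (D.comm_mem hx hx).2 m)
  let ε : Subgroup (C ⧸ D.R.subgroupOf C) := (D.ER.subgroupOf C).map π
  have hterm2 : ∀ q, π (term q) * (π ⟨x, hx⟩)⁻¹ ∈ ε := fun q => by
    rw [← map_inv, ← map_mul]
    exact ⟨_, mem_subgroupOf.2 ((hΓ q.out.2).2 x hx), rfl⟩
  have hprod : (∏ q, π (term q)) * (π ⟨x, hx⟩ ^ Fintype.card (N ⧸ CN))⁻¹ ∈ ε := by
    have := prod_mem (S := ε) (t := Finset.univ) fun q _ => hterm2 q
    rwa [Finset.prod_mul_distrib, Finset.prod_inv_distrib, Finset.prod_const, Finset.card_univ] at this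
  rw [← hy, ← map_pow, ← map_inv] at hprod
  obtain ⟨z, hz, hze⟩ := hprod
  have hR2 : (z : G)⁻¹ * ((y : G) * (x ^ Fintype.card (N ⧸ CN))⁻¹) ∈ D.R :=
    (hπ z (y * (⟨x, hx⟩ ^ Fintype.card (N ⧸ CN))⁻¹)).1 (hze.trans (map_mul π _ _).symm)
  have h6 : x ^ Fintype.card (N ⧸ CN) ∈ D.ER := by
    have h7 := mul_mem (mul_mem (inv_mem ((le_sup_right : D.R ≤ D.ER) hR2)) (inv_mem (mem_subgroupOf.1 hz)))
      ((le_sup_right : D.R ≤ D.ER) hyR)
    have e : ((z : G)⁻¹ * ((y : G) * (x ^ Fintype.card (N ⧸ CN))⁻¹))⁻¹ * (z : G)⁻¹ * (y : G) =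
        x ^ Fintype.card (N ⧸ CN) := by group
    rwa [e] at h7
  have := mul_mem (inv_mem hxx) h6
  convert this using 1
  group

omit [Finite G] in
theorem ER_le_H : D.ER ≤ D.H := sup_le D.E_le_H le_sup_right

theorem cent_E_le_H : centralizer (D.E : Set G) ≤ D.H := D.cent_E_eq ▸ D.ER_le_H

theorem norm_E_le_H : normalizer (D.E : Set G) ≤ D.H :=
  (D.norm_le D.H D.cent_E_le_H fun _ hu hu1 _ hw _ => (le_sup_left : D.L0 ≤ D.H) (D.wc_le_L0 hu hu1 hw)).1

theorem cent_t_le_H : centralizer ({D.t} : Set G) ≤ D.H := fun x hx => by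
  obtain ⟨w, hw, hwK⟩ := D.cent_t_decomp hx
  have h1 := mul_mem ((le_sup_left : D.L0 ≤ D.H) (D.wct_le_L0 hw)) (D.cent_E_le_H (D.K_le hwK))
  rwa [mul_inv_cancel_left] at h1

omit [Finite G] in
theorem mem_H {h : G} (hh : h ∈ D.H) : ∃ l ∈ D.L0, ∃ r ∈ D.R, h = l * r := by
  have hle : D.L0 ≤ normalizer (D.R : Set G) := fun l hl => by
    have key : ∀ r ∈ D.R, l * r * l⁻¹ = r := fun r hr => by rw [← D.R_cent hr hl, mul_inv_cancel_right]
    refine mem_normalizer_iff.2 fun r => ⟨fun hr => by rwa [key r hr], fun hr => ?_⟩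
    have h2 := D.R_cent hr hl
    have : l * r * l⁻¹ = r := by
      have h3 : l * (l * r * l⁻¹) = l * r := by rw [← h2]; group
      exact mul_left_cancel h3
    rwa [← this]
  rw [H, ← SetLike.mem_coe, coe_mul_of_left_le_normalizer_right _ _ hle] at hh
  obtain ⟨l, hl, r, hr, rfl⟩ := hh
  exact ⟨l, hl, r, hr, rfl⟩

/-- `L0` moves `t` to every involution of `E`. -/
theorem exists_mem_L0 {u : G} (hu : u ∈ D.E) (h1 : u ≠ 1) : ∃ l ∈ D.L0, l * D.t * l⁻¹ = u := by
  obtain ⟨g, hg, -, he⟩ :=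
    (D.norm_le D.H D.cent_E_le_H fun _ hu hu1 _ hw _ => (le_sup_left : D.L0 ≤ D.H) (D.wc_le_L0 hu hu1 hw)).2 u hu h1
  obtain ⟨l, hl, r, hr, rfl⟩ := D.mem_H hg
  refine ⟨l, hl, ?_⟩
  rw [← he]
  have h2 := D.R_cent hr (D.wct_le_L0 (mem_wc_self D.t))
  calc l * D.t * l⁻¹ = l * (D.t * r) * r⁻¹ * l⁻¹ := by group
    _ = l * r * D.t * (l * r)⁻¹ := by rw [← h2]; group

theorem mem_H_of_conj {g : G} (h : g * D.t * g⁻¹ ∈ D.H) : g ∈ D.H := by
  have : Fact (Nat.Prime 2) := ⟨Nat.prime_two⟩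
  set u := g * D.t * g⁻¹ with hu
  have huo : orderOf u = 2 := by rw [hu, CfsgLib.Signalizer.orderOf_conj, D.ht]
  obtain ⟨c, hc, hcS⟩ := exists_conj_into D.S
    (IsPGroup.of_card (n := 1) (by rw [Nat.card_zpowers, huo, pow_one]) : IsPGroup 2 (zpowers u))
    (zpowers_le.2 h) (D.S_le.trans D.cent_t_le_H)
  have hcu := hcS u (mem_zpowers u)
  have hconj : IsConj D.t (c * u * c⁻¹) := isConj_iff.2 ⟨c * g, by rw [hu]; group⟩
  obtain ⟨k, hk, hke⟩ := D.fuse (D.mem_E_of_conj hconj hcu) hconj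
  have hmem : k⁻¹ * (c * g) ∈ centralizer ({D.t} : Set G) := by
    rw [mem_centralizer_singleton_iff]
    calc k⁻¹ * (c * g) * D.t = k⁻¹ * (c * u * c⁻¹) * (c * g) := by rw [hu]; group
      _ = D.t * (k⁻¹ * (c * g)) := by rw [← hke]; group
  have h2 := mul_mem (mul_mem (inv_mem hc) (D.norm_E_le_H hk)) (D.cent_t_le_H hmem)
  convert h2 using 1
  group

theorem cent_le_H {d : G} (hd : IsConj D.t d) (hdH : d ∈ D.H) : centralizer ({d} : Set G) ≤ D.H := by
  intro g hg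
  obtain ⟨a, rfl⟩ := isConj_iff.1 hd
  have h1 := D.mem_H_of_conj hdH
  have h2 : g * a ∈ D.H := D.mem_H_of_conj (by
    have : g * a * D.t * (g * a)⁻¹ = g * (a * D.t * a⁻¹) * g⁻¹ := by group
    rw [this, mem_centralizer_singleton_iff.1 hg, mul_inv_cancel_right]
    exact hdH)
  simpa using mul_mem h2 (inv_mem h1)

end Hyp

end CfsgLib.Recog.JanType
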